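import Mathlib

/-!
# Norms over the lines of a group of type `(r, r)`
-/

set_option autoImplicit false

namespace CfsgLib.Perm.FourSizes

open Finset

variable {V : Type*} [CommGroup V]

/-- The norm of `v` under `γ` is fixed by `γ` if `γ ^ r = 1`. -/
theorem norm_fixed {r : ℕ} (γ : MulAut V) (h : γ ^ r = 1) (v : V) :
    γ (∏ k ∈ range r, (γ ^ k) v) = ∏ k ∈ range r, (γ ^ k) v := by
  have h1 : γ (∏ k ∈ range r, (γ ^ k) v) = ∏ k ∈ range r, (γ ^ (k + 1)) v := by
    rw [map_prod]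
    exact prod_congr rfl fun k _ => by rw [pow_succ', MulAut.mul_apply]
  have h2 := prod_range_succ' (fun k => (γ ^ k) v) r
  rw [prod_range_succ, h, pow_zero] at h2
  rw [h1]
  exact (mul_right_cancel h2).symm

theorem prod_pow_mul {r k : ℕ} (hr : r.Prime) (hk : ¬ r ∣ k) (β : MulAut V) (hβ : β ^ r = 1) (v : V) :
    ∏ i ∈ range r, (β ^ (i * k)) v = ∏ i ∈ range r, (β ^ i) v := by
  have hinj : Set.InjOn (fun i => i * k % r) (range r : Set ℕ) := by
    intro a ha b hb hab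
    have h1 : Nat.ModEq r (a * k) (b * k) := hab
    have h2 := Nat.ModEq.cancel_right_of_coprime (hr.coprime_iff_not_dvd.2 hk).gcd_eq_one h1
    exact Nat.ModEq.eq_of_lt_of_lt h2 (mem_range.1 ha) (mem_range.1 hb)
  have himg : (range r).image (fun i => i * k % r) = range r := by
    refine eq_of_subset_of_card_le ?_ (by rw [card_image_of_injOn hinj])
    intro a ha
    obtain ⟨i, -, rfl⟩ := mem_image.1 ha
    exact mem_range.2 (Nat.mod_lt _ hr.pos)
  conv_rhs => rw [← himg, prod_image hinj]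
  exact prod_congr rfl fun i _ => by rw [← pow_eq_pow_mod (i * k) hβ]

/-- A fixed-point-free group of type `(r, r)` forces exponent dividing `r`. -/
theorem pow_mem_of_fixed {r : ℕ} (hr : r.Prime) (α β : MulAut V) (Z : Subgroup V) (hα : α ^ r = 1)
    (hβ : β ^ r = 1) (hc : Commute α β) (hZ : ∀ z ∈ Z, ∀ k : ℕ, (α ^ k) z = z)
    (fb : ∀ v, β v = v → v ∈ Z) (fa : ∀ i < r, ∀ v, (α * β ^ i) v = v → v ∈ Z) (v : V) : v ^ r ∈ Z := by
  have hγ : ∀ i, (α * β ^ i) ^ r = 1 := fun i => by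
    rw [(hc.pow_right i).mul_pow, hα, ← pow_mul, mul_comm, pow_mul, hβ, one_pow, one_mul]
  have hsum : ∏ i ∈ range r, ∏ k ∈ range r, ((α * β ^ i) ^ k) v ∈ Z :=
    prod_mem fun i hi => fa i (mem_range.1 hi) _ (norm_fixed _ (hγ i) v)
  have he : ∀ i k : ℕ, ((α * β ^ i) ^ k) v = (α ^ k) ((β ^ (i * k)) v) := fun i k => by
    rw [(hc.pow_right i).mul_pow, ← pow_mul, MulAut.mul_apply]
  simp only [he] at hsum
  rw [prod_comm] at hsum
  simp only [← map_prod] at hsum
  have hpos : 0 < r := hr.pos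
  rw [← prod_erase_mul _ _ (mem_range.2 hpos)] at hsum
  have hzero : (α ^ 0) (∏ i ∈ range r, (β ^ (i * 0)) v) = v ^ r := by simp
  rw [hzero] at hsum
  refine (Subgroup.mul_mem_cancel_left Z (prod_mem fun k hk => ?_)).1 hsum
  obtain ⟨hk0, hkr⟩ := mem_erase.1 hk
  rw [prod_pow_mul hr (Nat.not_dvd_of_pos_of_lt (Nat.pos_of_ne_zero hk0) (mem_range.1 hkr)) β hβ v]
  have hm := fb _ (norm_fixed β hβ v)
  rw [hZ _ hm k]
  exact hm

end CfsgLib.Perm.FourSizes
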