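import Cfsg.Agent.Lib.Perm.ThreeSizes.Acts
import Cfsg.Agent.Lib.StructC.SylowClassCover

/-!
# Class sizes `1, n, m, n m` with coprime `n, m`: first facts
-/

set_option autoImplicit false
set_option linter.unusedSectionVars false

namespace CfsgLib.Perm.FourSizes

open Subgroup
open CfsgLib.InvChar.ConjRank (cent mem_cent self_mem_cent mem_cent_comm cent_le_pow card_cent_conj)
open CfsgLib.Perm.ThreeSizes.Thick (Pr cent_mul_eq exists_primary cent_eq_top cent_inf_center)

universe u
variable {G : Type u} [Group G]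

/-- The class sizes are `1`, `n`, `m`, `n m`, and all occur. -/
structure Hyp (G : Type u) [Group G] (n m : ℕ) : Prop where
  one_lt_n : 1 < n
  one_lt_m : 1 < m
  cop : n.Coprime m
  size : ∀ g : G, (cent g).index = 1 ∨ (cent g).index = n ∨ (cent g).index = m ∨ (cent g).index = n * m
  exn : ∃ g : G, (cent g).index = n
  exm : ∃ g : G, (cent g).index = m
  exnm : ∃ g : G, (cent g).index = n * m

theorem index_eq_one_iff {g : G} : (cent g).index = 1 ↔ g ∈ center G := by
  rw [index_eq_one, cent_eq_top]

theorem Hyp.symm {n m : ℕ} (H : Hyp G n m) : Hyp G m n where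
  one_lt_n := H.one_lt_m
  one_lt_m := H.one_lt_n
  cop := H.cop.symm
  size g := by
    rw [mul_comm m n]
    rcases H.size g with h | h | h | h
    · exact Or.inl h
    · exact Or.inr (Or.inr (Or.inl h))
    · exact Or.inr (Or.inl h)
    · exact Or.inr (Or.inr (Or.inr h))
  exn := H.exm
  exm := H.exn
  exnm := by rw [mul_comm m n]; exact H.exnm

theorem eq_one_of_pel {p i : ℕ} {x : G} (hx : x ^ p ^ i = 1) (h : (orderOf x).Coprime p) : x = 1 :=
  orderOf_eq_one_iff.1 (Nat.eq_one_of_dvd_coprimes (h.pow_right i) dvd_rfl (orderOf_dvd_of_pow_eq_one hx))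

theorem coprime_of_pel {p i : ℕ} {x y : G} (hx : x ^ p ^ i = 1) (hy : (orderOf y).Coprime p) :
    (orderOf x).Coprime (orderOf y) :=
  Nat.Coprime.coprime_dvd_left (orderOf_dvd_of_pow_eq_one hx) (hy.pow_right i).symm

theorem coprime_conj {p : ℕ} {x : G} (c : G) (h : (orderOf x).Coprime p) :
    (orderOf (c * x * c⁻¹)).Coprime p := by
  rwa [show orderOf (c * x * c⁻¹) = orderOf x from (MulAut.conj c).orderOf_eq x]

theorem pel_of_pr [Finite G] {p : ℕ} {x : G} (h : Pr x p) : ∃ i, x ^ p ^ i = 1 :=
  (CfsgLib.Perm.ThreeSizes.Thick.order_pow_iff h.1).2 h.2.2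

theorem pr_of_pel [Finite G] {p i : ℕ} (hp : p.Prime) {x : G} (h : x ^ p ^ i = 1) (hx : x ∉ center G) : Pr x p :=
  ⟨hp, hx, (CfsgLib.Perm.ThreeSizes.Thick.order_pow_iff hp).1 ⟨i, h⟩⟩

theorem coprime_of_ne {p q : ℕ} {x : G} (hp : p.Prime) (hq : q.Prime) (h : p ≠ q)
    (hx : ∃ i, orderOf x = p ^ i) : (orderOf x).Coprime q := by
  obtain ⟨i, hi⟩ := hx
  exact hi ▸ ((Nat.coprime_primes hp hq).2 h).pow_left i

variable [Finite G]

theorem index_cent_conj (c x : G) : (cent (c * x * c⁻¹)).index = (cent x).index := by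
  have h1 := (cent (c * x * c⁻¹)).card_mul_index
  rw [card_cent_conj, ← (cent x).card_mul_index] at h1
  exact Nat.eq_of_mul_eq_mul_left Nat.card_pos h1

theorem eq_of_index {A B : Subgroup G} (h : A ≤ B) (hd : A.index ∣ B.index) : A = B := by
  refine eq_of_le_of_card_ge h (le_of_eq ?_)
  have h1 := A.card_mul_index
  rw [Nat.dvd_antisymm hd (index_dvd_of_le h), ← B.card_mul_index] at h1
  exact (Nat.eq_of_mul_eq_mul_right (Nat.pos_of_ne_zero index_ne_zero_of_finite) h1).symm

theorem fac_card_index (A : Subgroup G) (r : ℕ) :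
    (Nat.card G).factorization r = (Nat.card A).factorization r + A.index.factorization r := by
  rw [← A.card_mul_index, Nat.factorization_mul Nat.card_pos.ne' index_ne_zero_of_finite, Finsupp.add_apply]

/-- A Sylow subgroup lies in some conjugate of a centraliser of index prime to it. -/
theorem full_conj {r : ℕ} [Fact r.Prime] {g : G} (h : ¬ r ∣ (cent g).index) (R : Sylow r G) :
    ∃ c : G, (R : Subgroup G) ≤ cent (c * g * c⁻¹) := by
  obtain ⟨c, hc⟩ := CfsgLib.StructC.SylowClassCover.exists_conj_mem_cent R h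
  exact ⟨c, fun u hu => mem_cent.2 (mem_centralizer_iff.1 hc u hu)⟩

/-- A Sylow subgroup for a prime divisor of a class size is not central. -/
theorem sylow_noncentral {r : ℕ} [Fact r.Prime] {g : G} (h : r ∣ (cent g).index) (R : Sylow r G) :
    ∃ z ∈ (R : Subgroup G), z ∉ center G := by
  by_contra hcon
  have hle : (R : Subgroup G) ≤ center G := fun z hz => by_contra fun hc => hcon ⟨z, hz, hc⟩
  exact R.not_dvd_index (h.trans (index_dvd_of_le (hle.trans (cent_inf_center g))))

/-- A subgroup containing a noncentral `r`-element has larger `r`-part than the centre. -/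
theorem fac_center_lt {K : Subgroup G} (hZ : center G ≤ K) {u : G} {r : ℕ} (hu : Pr u r) (huK : u ∈ K) :
    (Nat.card (center G)).factorization r < (Nat.card K).factorization r := by
  have hd : r ∣ Nat.card (K.map (QuotientGroup.mk' (center G))) := by
    obtain ⟨hr, hc, i, hi⟩ := hu
    obtain ⟨j, -, hj⟩ := (Nat.dvd_prime_pow hr).1 (hi ▸ orderOf_map_dvd (QuotientGroup.mk' (center G)) u)
    have hj0 : j ≠ 0 := fun e => hc ((QuotientGroup.eq_one_iff u).1
      (orderOf_eq_one_iff.1 (by rw [e, pow_zero] at hj; exact hj)))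
    exact ((dvd_pow_self r hj0).trans hj.symm.dvd).trans
      (Subgroup.orderOf_dvd_natCard _ (mem_map_of_mem _ huK))
  rw [← CfsgLib.Solvable.card_map_mk'_eq (center G) hZ, Nat.factorization_mul Nat.card_pos.ne' Nat.card_pos.ne',
    Finsupp.add_apply]
  have := hu.1.factorization_pos_of_dvd Nat.card_pos.ne' hd
  omega

variable {n m : ℕ} (H : Hyp G n m)
include H

theorem Hyp.not_central {g : G} (h : (cent g).index = n) : g ∉ center G := fun hc => by
  have := index_eq_one_iff.2 hc
  have := H.one_lt_n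
  omega

theorem Hyp.not_central_max {g : G} (h : (cent g).index = n * m) : g ∉ center G := fun hc => by
  rw [index_eq_one_iff.2 hc] at h
  have := Nat.le_mul_of_pos_right n (by have := H.one_lt_m; omega : 0 < m)
  have := H.one_lt_n
  omega

theorem Hyp.cases {g : G} (hg : g ∉ center G) :
    (cent g).index = n ∨ (cent g).index = m ∨ (cent g).index = n * m :=
  (H.size g).resolve_left fun e => hg (index_eq_one_iff.1 e)

theorem Hyp.dvd_max (g : G) : (cent g).index ∣ n * m := by
  rcases H.size g with h | h | h | h <;> rw [h]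
  · exact one_dvd _
  · exact dvd_mul_right n m
  · exact dvd_mul_left m n

theorem Hyp.eq_max {u v : G} (hu : (cent u).index = n * m) (h : cent v ≤ cent u) : cent v = cent u :=
  eq_of_index h (hu ▸ H.dvd_max v)

theorem Hyp.not_dvd_cross : ¬ n ∣ m ∧ ¬ n * m ∣ n ∧ ¬ n * m ∣ m := by
  have h1 : ¬ n ∣ m := fun h => by
    have := Nat.eq_one_of_dvd_coprimes H.cop dvd_rfl h
    have := H.one_lt_n
    omega
  refine ⟨h1, fun h => ?_, fun h => h1 ((dvd_mul_right n m).trans h)⟩
  have := Nat.eq_one_of_dvd_coprimes H.cop.symm dvd_rfl ((dvd_mul_left m n).trans h)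
  have := H.one_lt_m
  omega

theorem Hyp.eq_of_n {u v : G} (hu : (cent u).index = n) (hv : v ∉ center G) (h : cent u ≤ cent v) :
    cent u = cent v := by
  refine eq_of_index h ?_
  have h1 := hu ▸ index_dvd_of_le h
  rcases H.cases hv with e | e | e
  · rw [hu, e]
  · exact absurd (e ▸ h1) (fun hd => H.symm.not_dvd_cross.1 hd)
  · exact absurd (e ▸ h1) H.not_dvd_cross.2.1

/-- Some element of prime power order has class size `n`. -/
theorem Hyp.exists_pr_n : ∃ (x : G) (p : ℕ), Pr x p ∧ (cent x).index = n := by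
  obtain ⟨g, hg⟩ := H.exn
  obtain ⟨k, p, hp⟩ := exists_primary (H.not_central hg)
  exact ⟨g ^ k, p, hp, by rw [← H.eq_of_n hg hp.2.1 (cent_le_pow g k), hg]⟩

/-- In a centraliser of index `n` the classes of elements of coprime order have size `1` or `m`. -/
theorem Hyp.rel_cases {u v : G} (hu : (cent u).index = n) (hc : Commute u v)
    (hco : (orderOf u).Coprime (orderOf v)) :
    (cent v).relIndex (cent u) = 1 ∨ (cent v).relIndex (cent u) = m := by
  have h1 : (cent v).relIndex (cent u) * n = (cent (u * v)).index := by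
    rw [cent_mul_eq hc hco, ← hu, ← inf_relIndex_left]
    exact relIndex_mul_index inf_le_left
  have hn := H.one_lt_n
  rcases H.size (u * v) with e | e | e | e <;> rw [e] at h1
  · have := Nat.eq_one_of_mul_eq_one_left h1
    omega
  · exact Or.inl (Nat.eq_of_mul_eq_mul_right (by omega) (h1.trans (one_mul n).symm))
  · exact absurd ⟨_, h1.symm.trans (mul_comm _ _)⟩ H.not_dvd_cross.1
  · exact Or.inr (Nat.eq_of_mul_eq_mul_right (by omega) (h1.trans (mul_comm n m)))

/-- A centraliser inside another one of index `n` or a full one. -/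
theorem Hyp.cent_le_of_max {u v : G} (hu : (cent u).index = n * m) (hc : Commute u v)
    (hco : (orderOf u).Coprime (orderOf v)) : cent u ≤ cent v := by
  have e := cent_mul_eq hc hco
  have h1 := H.eq_max hu (e.le.trans inf_le_left)
  exact h1.ge.trans (e.le.trans inf_le_right)

/-- Centralisers of elements of class sizes `n` and `m` meet outside the centre. -/
theorem Hyp.exists_inf {x y : G} (hx : (cent x).index = n) (hy : (cent y).index = m) :
    ∃ v ∈ cent x ⊓ cent y, v ∉ center G := by
  by_contra hcon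
  have hle : cent x ⊓ cent y ≤ center G := fun v hv => by_contra fun hc => hcon ⟨v, hv, hc⟩
  obtain ⟨g, hg⟩ := H.exnm
  refine H.not_central_max hg ?_
  have h1 : (center G).index ≤ n * m := by
    refine le_trans (Nat.le_of_dvd (Nat.pos_of_ne_zero index_ne_zero_of_finite) (index_dvd_of_le hle)) ?_
    exact hx ▸ hy ▸ index_inf_le
  have h2 : cent g ≤ center G := by
    refine (eq_of_index (cent_inf_center g) ?_).ge
    rw [hg, Nat.le_antisymm h1 (hg ▸ Nat.le_of_dvd (Nat.pos_of_ne_zero index_ne_zero_of_finite)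
      (index_dvd_of_le (cent_inf_center g)))]
  exact h2 (self_mem_cent g)

end CfsgLib.Perm.FourSizes
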