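import Cfsg.Agent.Lib.Perm.FourSizes.Members

/-!
# Two members meeting in a four group or a group of type `(r, r)` modulo the centre
-/

set_option autoImplicit false
set_option linter.unusedSectionVars false

namespace CfsgLib.Perm.FourSizes

open Subgroup
open CfsgLib.InvChar.ConjRank (cent mem_cent self_mem_cent mem_cent_comm cent_le_pow)
open CfsgLib.Perm.ThreeSizes.Thick (Pr cent_inf_center exists_pr cmod mem_cmod mem_cmod_iff commute_of_cmod
  InvAt part mem_part part_le part_isPGroup pi_eq_one)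

universe u
variable {G : Type u} [Group G] [Finite G]

local notation "π" => QuotientGroup.mk' (center G)

/-- Two `r`-elements of exponent `r` modulo the centre, commuting modulo the centre, in different members. -/
structure Cross (r : ℕ) (x b g : G) : Prop where
  hb : Pr b r
  hg : Pr g r
  bx : b ∈ cent x
  gx : g ∈ cent x
  br : b ^ r ∈ center G
  gr : g ^ r ∈ center G
  comm : g ∈ cmod b
  ne : g ∉ cent b

theorem Cross.symm {r : ℕ} {x b g : G} (C : Cross r x b g) : Cross r x g b :=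
  ⟨C.hg, C.hb, C.gx, C.bx, C.gr, C.br, mem_cmod.2 (mem_cmod.1 C.comm).symm, fun h => C.ne (mem_cent_comm.1 h)⟩

theorem orderOf_pi {r : ℕ} {b : G} (hb : Pr b r) (hbr : b ^ r ∈ center G) : orderOf (π b) = r := by
  haveI := Fact.mk hb.1
  exact orderOf_eq_prime (by rw [← map_pow]; exact pi_eq_one.2 hbr) fun h => hb.2.1 (pi_eq_one.1 h)

theorem fac_comap {r : ℕ} (K : Subgroup (G ⧸ center G)) :
    (Nat.card (K.comap π)).factorization r =
      (Nat.card K).factorization r + (Nat.card (center G)).factorization r := by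
  have h1 : center G ≤ K.comap π := fun z hz => by
    rw [mem_comap, pi_eq_one.2 hz]; exact one_mem _
  have h2 := CfsgLib.Solvable.card_map_mk'_eq (center G) h1
  rw [map_comap_eq_self_of_surjective (QuotientGroup.mk'_surjective _)] at h2
  rw [← h2, Nat.factorization_mul Nat.card_pos.ne' Nat.card_pos.ne', Finsupp.add_apply]

namespace Third

variable {n m p q r : ℕ} {x : G} (T : Third G n m p q r x)
include T

theorem r_mul {b t g : G} (hb : Pr b r) (ht : t ∈ part (cent b) r) (hg : ∃ i, g ^ r ^ i = 1)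
    (hgn : g ∈ normalizer (cent b : Set G)) : ∃ i, (t * g) ^ r ^ i = 1 := by
  haveI := Fact.mk T.hr
  exact pel_mul_of_mem ((part_isPGroup (T.abel hb) r).to_sup_of_normal_left' (isPGroup_zpowers hg)
    (zpowers_le.2 (CfsgLib.Perm.ThreeSizes.Thick.normalizer_le_part (T.abel hb) r hgn)))
    (mul_mem (mem_sup_left ht) (mem_sup_right (mem_zpowers g)))

/-- The fixed elements of exponent `r` in a member form one line. -/
theorem line {b g u : G} (C : Cross r x b g) (hu : u ∈ part (cent b) r) (hur : u ^ r ∈ center G)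
    (hgu : g ∈ cmod u) : ∃ i, π u * (π b) ^ i = 1 := by
  have hub : u ∈ cent b := part_le _ r hu
  rcases T.rank_one C.hg C.gx (a := u) (b := b) (T.mem_x C.hb C.bx hub)
    (T.mem_normalizer_cmod C.hg (mem_cmod.2 (mem_cmod.1 hgu).symm)) C.bx
    (T.mem_normalizer_cmod C.hg C.symm.comm) (cent_inf_center g hur) (cent_inf_center g C.br)
    (by rw [(mem_cent.1 hub).eq, mul_inv_cancel_right, mul_inv_cancel]; exact one_mem _) with h | ⟨i, -, h⟩
  · exact absurd h C.symm.ne
  · refine ⟨i, ?_⟩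
    by_contra hc
    have hmem : u * b ^ i ∈ part (cent b) r :=
      mul_mem hu (pow_mem (C.hb.mem_part (T.abel C.hb) (self_mem_cent b)) i)
    have hPr : Pr (u * b ^ i) r := CfsgLib.Perm.ThreeSizes.Thick.pr_of_part (T.abel C.hb) T.hr hmem
      fun h' => hc (by rw [← map_pow, ← map_mul]; exact pi_eq_one.2 h')
    have h1 := T.eq_member C.hb hPr (part_le _ r hmem)
    have h2 := T.eq_member C.hg hPr h
    exact C.ne ((h1.trans h2.symm).ge (self_mem_cent g))

/-- A Sylow subgroup of `cent x` with two such elements. -/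
theorem exists_cross {z : G} (hz : Pr z r) : ∃ (R : Sylow r G) (b g : G), (R : Subgroup G) ≤ cent x ∧
    b ∈ (R : Subgroup G) ∧ g ∈ (R : Subgroup G) ∧ Cross r x b g ∧ (∀ h ∈ (R : Subgroup G), h ∈ cmod b) ∧
    ∀ h ∈ (R : Subgroup G), h * g * h⁻¹ * g⁻¹ ∈ cent b := by
  haveI := Fact.mk T.hr
  obtain ⟨R, hR⟩ := exists_sylow_le (T.hxn.symm ▸ T.rn)
  have hzd : r ∣ (cent z).index := by rw [T.nm hz]; exact T.rm.mul_left n
  obtain ⟨u, hu, huc⟩ := sylow_noncentral hzd R
  set Rb := (R : Subgroup G).map π with hRb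
  have : Nontrivial Rb := ⟨⟨π u, mem_map_of_mem π hu⟩, 1, fun h => huc (pi_eq_one.1 (congrArg Subtype.val h))⟩
  have hRp : IsPGroup r Rb := R.isPGroup'.map π
  have := hRp.center_nontrivial
  obtain ⟨c, hc⟩ := exists_prime_orderOf_dvd_card' (G := Subgroup.center Rb) r (by
    obtain ⟨k, hk, hk'⟩ := ((hRp.to_subgroup (Subgroup.center Rb)).nontrivial_iff_card).1 inferInstance
    exact hk' ▸ dvd_pow_self r hk.ne')
  obtain ⟨b, hbR, hbc⟩ := mem_map.1 (c : Rb).2
  have hbo : orderOf (π b) = r := by rw [hbc, orderOf_coe, orderOf_coe, hc]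
  have hbnc : b ∉ center G := fun h => T.hr.ne_one (by rw [← hbo, pi_eq_one.2 h, orderOf_one])
  have hbr : b ^ r ∈ center G := pi_eq_one.1 (by rw [map_pow, ← hbo, pow_orderOf_eq_one])
  have hb : Pr b r := by
    obtain ⟨i, hi⟩ := pel_mul_of_mem R.isPGroup' hbR
    exact pr_of_pel T.hr hi hbnc
  have hcm : ∀ h ∈ (R : Subgroup G), h ∈ cmod b := fun h hh => mem_cmod.2 (by
    show π h * π b = π b * π h
    rw [hbc]
    exact congrArg Subtype.val (Subgroup.mem_center_iff.1 c.2 ⟨π h, mem_map_of_mem π hh⟩))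
  have hbx := hR hbR
  have hn : (R : Subgroup G) ≤ normalizer (cent b : Set G) := fun h hh => T.mem_normalizer_cmod hb (hcm h hh)
  set N := (cent b).subgroupOf (R : Subgroup G) with hN
  haveI : N.Normal := by
    refine ⟨fun k hk h => ?_⟩
    exact (CfsgLib.Perm.ThreeSizes.Thick.conj_mem_normalizer (hn h.2) hk).1
  have hne : N ≠ ⊤ := fun h => by
    have h1 : (R : Subgroup G) ≤ cent b := subgroupOf_eq_top.1 h
    refine R.not_dvd_index ((?_ : r ∣ (cent b).index).trans (index_dvd_of_le h1))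
    rw [T.nm hb]; exact T.rm.mul_left n
  have hQp : IsPGroup r ((R : Subgroup G) ⧸ N) := R.isPGroup'.to_quotient N
  have : Nontrivial ((R : Subgroup G) ⧸ N) := QuotientGroup.nontrivial_iff.2 hne
  have := hQp.center_nontrivial
  obtain ⟨d, hd⟩ := exists_prime_orderOf_dvd_card' (G := Subgroup.center ((R : Subgroup G) ⧸ N)) r (by
    obtain ⟨k, hk, hk'⟩ :=
      ((hQp.to_subgroup (Subgroup.center ((R : Subgroup G) ⧸ N))).nontrivial_iff_card).1 inferInstance
    exact hk' ▸ dvd_pow_self r hk.ne')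
  obtain ⟨⟨g, hgR⟩, hg⟩ := QuotientGroup.mk'_surjective N (d : (R : Subgroup G) ⧸ N)
  have hgo : orderOf (QuotientGroup.mk' N ⟨g, hgR⟩) = r := by rw [hg, orderOf_coe, hd]
  have hgb : g ∉ cent b := fun h => T.hr.ne_one (by
    rw [← hgo, show QuotientGroup.mk' N ⟨g, hgR⟩ = 1 from (QuotientGroup.eq_one_iff _).2 (mem_subgroupOf.2 h),
      orderOf_one])
  have hgrb : g ^ r ∈ cent b := by
    have h1 : (⟨g, hgR⟩ : (R : Subgroup G)) ^ r ∈ N := (QuotientGroup.eq_one_iff _).1
      (by
        have h2 := pow_orderOf_eq_one (QuotientGroup.mk' N ⟨g, hgR⟩)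
        rwa [hgo, ← map_pow] at h2)
    exact h1
  obtain ⟨i, hi⟩ := pel_mul_of_mem R.isPGroup' hgR
  have hgc : g ∉ center G := fun h => hgb (cent_inf_center b h)
  refine ⟨R, b, g, hR, hbR, hgR, ⟨hb, pr_of_pel T.hr hi hgc, hbx, hR hgR, hbr,
    T.pow_center hb ⟨i, hi⟩ hgb hgrb, hcm g hgR, hgb⟩, hcm, fun h hh => ?_⟩
  have h1 := Subgroup.mem_center_iff.1 d.2 (QuotientGroup.mk' N ⟨h, hh⟩)
  rw [← hg, ← map_mul, ← map_mul] at h1
  have h2 : (⟨h, hh⟩ * ⟨g, hgR⟩ * (⟨h, hh⟩)⁻¹ * (⟨g, hgR⟩)⁻¹ : (R : Subgroup G)) ∈ N := by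
    rw [← QuotientGroup.eq_one_iff, ← QuotientGroup.mk'_apply, map_mul, map_mul, h1, map_mul, map_inv,
      map_inv]
    group
  exact h2

/-- For `r = 2`. -/
theorem two_false (hr2 : r = 2) {b g : G} (C : Cross r x b g) : False := by
  subst hr2
  haveI : Fact (Nat.Prime 2) := ⟨Nat.prime_two⟩
  haveI := Fact.mk T.two.q_prime
  have hab := T.abel C.hb
  have hgn := T.mem_normalizer_cmod C.hb C.comm
  have hgel := pel_of_pr C.hg
  have hinv : ∀ t ∈ part (cent b) 2, InvAt g t := by
    intro t ht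
    have htb : t ∈ cent b := part_le _ 2 ht
    have h1 : (t * g) ^ 2 ∈ cent b := by
      rw [pow_two, show t * g * (t * g) = t * (g * t * g⁻¹) * g ^ 2 by rw [pow_two]; group]
      exact mul_mem (mul_mem htb (CfsgLib.Perm.ThreeSizes.Thick.conj_mem_normalizer hgn htb).1)
        (cent_inf_center b C.gr)
    have h2 : π (t * g) ^ 2 = 1 := by
      rw [← map_pow]
      exact pi_eq_one.2 (T.pow_center C.hb (T.r_mul C.hb ht hgel hgn)
        (fun h => C.ne (((cent b).mul_mem_cancel_left htb).1 h)) h1)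
    have h3 : π g ^ 2 = 1 := by rw [← map_pow]; exact pi_eq_one.2 C.gr
    have hg' : (π g)⁻¹ = π g := inv_eq_of_mul_eq_one_right (by rw [← pow_two]; exact h3)
    show π g * π t * (π g)⁻¹ = (π t)⁻¹
    rw [hg', eq_inv_iff_mul_eq_one]
    rw [map_mul, pow_two] at h2
    calc π g * π t * π g * π t = (π t)⁻¹ * (π t * π g * (π t * π g)) * π t := by group
      _ = 1 := by rw [h2, mul_one, inv_mul_cancel]
  have hfour : π b ^ 2 = 1 := by rw [← map_pow]; exact pi_eq_one.2 C.br
  have huniq : ∀ u ∈ part (cent b) 2, u ^ 2 ∈ center G → u ∉ center G → π u = π b := by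
    intro u hu hu2 huc
    have hu' : (π u)⁻¹ = π u := inv_eq_of_mul_eq_one_right (by rw [← pow_two, ← map_pow]; exact pi_eq_one.2 hu2)
    have hgu : g ∈ cmod u := mem_cmod.2 (by
      have h := hinv u hu
      unfold InvAt at h
      rw [hu'] at h
      exact mul_inv_eq_iff_eq_mul.1 h)
    obtain ⟨i, hi⟩ := T.line C hu hu2 hgu
    rw [pow_eq_pow_mod i hfour] at hi
    rcases Nat.mod_two_eq_zero_or_one i with e | e <;> rw [e] at hi
    · rw [pow_zero, mul_one] at hi
      exact absurd (pi_eq_one.1 hi) huc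
    · rw [pow_one] at hi
      rw [eq_inv_of_mul_eq_one_left hi]
      exact inv_eq_of_mul_eq_one_right (by rw [← pow_two]; exact hfour)
  set V := part (cent b) q with hV
  set X := part (cent b) 2 with hX
  set K := centralizer (V : Set G) with hK
  have hbK : cent b ≤ K := fun k hk => mem_centralizer_iff.2 fun v hv => (hab v (part_le _ q hv) k hk).eq
  obtain ⟨s, hs, hsq⟩ := T.two.exists_q (Or.inr (T.nm C.hb))
  have hsV : s ∈ V := hsq.mem_part hab hs
  have hKD : K ⊓ cent x ≤ cent b := fun k hk => (T.q_inf C.hb C.bx hs hsq).le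
    ⟨hk.2, mem_cent.2 (mem_centralizer_iff.1 hk.1 s hsV).symm⟩
  have hfacK : (Nat.card K).factorization 2 ≤ (Nat.card X).factorization 2 := by
    rw [CfsgLib.Perm.ThreeSizes.Thick.factorization_part hab 2]
    refine le_trans (CfsgLib.InvChar.ConjRank.factorization_card_le (H := K)
      (fun k hk => mem_cent.2 (mem_centralizer_iff.1 hk s hsV).symm) 2) ?_
    have hi : (cent s).index = m ∨ (cent s).index = n * m := by
      rcases T.two.hyp.cases hsq.2.1 with e | e | e
      · exact absurd (T.two.un s q hsq e) T.two.ne.symm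
      · exact Or.inl e
      · exact Or.inr e
    have h1 := T.two.hyp.symm.fac_cent (r := 2) T.rn (g := b) (Or.inr (by rw [mul_comm m n]; exact T.nm C.hb))
    have h2 := T.two.hyp.symm.fac_cent (r := 2) T.rn (g := s) (by rw [mul_comm m n]; exact hi)
    omega
  have hXK : X ≤ K := (part_le _ 2).trans hbK
  have hbX : b ∈ X := C.hb.mem_part hab (self_mem_cent b)
  -- the normaliser of `X` in `K` centralises it
  have hN : ∀ k ∈ K, k ∈ normalizer (X : Set G) → k ∈ cent b := by
    intro k hk hkn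
    obtain ⟨a, c, i, hac, ha, hc, hao, hci⟩ := CfsgLib.Perm.CountingComplement.exists_parts 2 k
    have han := (zpowers_le.2 hkn) ha
    rw [hac]
    refine mul_mem (mem_cent.2 (commute_of_cmod (mem_cmod.2 (mul_inv_eq_iff_eq_mul.1 ?_)) ?_))
      (part_le _ 2 (mem_of_full (part_isPGroup hab 2) hXK ⟨i, hci⟩ ((zpowers_le.2 hk) hc)
        ((zpowers_le.2 hkn) hc) hfacK))
    · rw [← map_inv, ← map_mul, ← map_mul]
      refine huniq _ (CfsgLib.Perm.ThreeSizes.Thick.conj_mem_normalizer han hbX).1 ?_ (C.hb.conj a).2.1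
      rw [conj_pow]
      exact (inferInstance : (center G).Normal).conj_mem _ C.br a
    · obtain ⟨j, hj⟩ := pel_of_pr C.hb
      exact (coprime_of_pel hj hao).symm
  obtain ⟨P, hP⟩ : ∃ P : Sylow 2 K, (P : Subgroup K) = X.subgroupOf K := by
    obtain ⟨e, he⟩ := IsPGroup.iff_card.1 (part_isPGroup hab 2)
    have hc : Nat.card (X.subgroupOf K) = 2 ^ (Nat.card K).factorization 2 := by
      rw [Nat.card_congr (subgroupOfEquivOfLe hXK).toEquiv]
      have hle := CfsgLib.InvChar.ConjRank.factorization_card_le hXK 2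
      rw [hX, he, Nat.prime_two.factorization_pow, Finsupp.single_eq_same] at hfacK hle
      rw [hX, he, le_antisymm hle hfacK]
    exact ⟨Sylow.ofCard _ hc, rfl⟩
  have hPc : normalizer ((P : Subgroup K) : Set K) ≤ centralizer ((P : Subgroup K) : Set K) := by
    rw [hP]
    intro k hk
    refine mem_centralizer_iff.2 fun t ht => Subtype.ext ?_
    refine hab t (part_le _ 2 ht) k (hN k k.2 (mem_normalizer_fintype fun u hu => ?_))
    exact (mem_normalizer_iff.1 hk ⟨u, hXK hu⟩).1 hu
  have hMP := MonoidHom.ker_transferSylow_isComplement' P hPc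
  set M := (MonoidHom.transferSylow P hPc).ker
  have hModd : (Nat.card M).Coprime 2 := by
    rw [← hMP.index_eq_card]
    exact ((Nat.Prime.coprime_iff_not_dvd Nat.prime_two).2 P.not_dvd_index).symm
  set M' := M.map K.subtype with hM'
  have hM'card : (Nat.card M').Coprime 2 := by
    rwa [hM', card_map_of_injective (subtype_injective _)]
  have hM'mem : ∀ k : G, k ∈ M' ↔ k ∈ K ∧ (orderOf k).Coprime 2 := by
    refine fun k => ⟨fun hk => ⟨map_subtype_le _ hk,
      Nat.Coprime.coprime_dvd_left (M'.orderOf_dvd_natCard hk) hM'card⟩, fun ⟨hk, ho⟩ => ⟨⟨k, hk⟩, ?_, rfl⟩⟩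
    rw [SetLike.mem_coe, ← QuotientGroup.eq_one_iff, ← orderOf_eq_one_iff]
    obtain ⟨e, he⟩ := IsPGroup.iff_card.1 P.isPGroup'
    refine Nat.eq_one_of_dvd_coprimes (ho.pow_right e)
      ((orderOf_map_dvd (QuotientGroup.mk' M) _).trans (dvd_of_eq (orderOf_mk k hk))) ?_
    rw [← he, ← hMP.symm.index_eq_card, index_eq_card]
    exact _root_.orderOf_dvd_natCard _
  have hVn : ∀ d : G, d ∈ normalizer (cent b : Set G) → d ∈ normalizer (K : Set G) := fun d hd =>
    mem_normalizer_fintype fun k hk => mem_centralizer_iff.2 fun v hv => by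
      have h1 := mem_centralizer_iff.1 hk (d⁻¹ * v * d) (CfsgLib.Perm.ThreeSizes.Thick.conj_mem_normalizer
        (CfsgLib.Perm.ThreeSizes.Thick.normalizer_le_part hab q hd) hv).2
      calc v * (d * k * d⁻¹) = d * (d⁻¹ * v * d * k) * d⁻¹ := by group
        _ = d * (k * (d⁻¹ * v * d)) * d⁻¹ := by rw [h1]
        _ = d * k * d⁻¹ * v := by group
  have hM'n : ∀ d : G, d ∈ normalizer (cent b : Set G) → π d ∈ normalizer (M'.map π : Set (G ⧸ center G)) := by
    intro d hd
    refine le_normalizer_map π ⟨d, mem_normalizer_fintype fun k hk => ?_, rfl⟩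
    obtain ⟨hkK, hko⟩ := (hM'mem k).1 hk
    exact (hM'mem _).2 ⟨(mem_normalizer_iff.1 (hVn d hd) k).1 hkK, coprime_conj d hko⟩
  -- the four group modulo the centre
  set A := zpowers (π b) ⊔ zpowers (π g) with hA
  have hAb : zpowers (π g) ≤ centralizer (zpowers (π b) : Set (G ⧸ center G)) := by
    refine zpowers_le.2 (mem_centralizer_iff.2 fun t ht => ?_)
    obtain ⟨j, rfl⟩ := mem_zpowers_iff.1 ht
    exact ((mem_cmod.1 C.comm).zpow_right j).symm.eq
  have hAn : zpowers (π g) ≤ normalizer (zpowers (π b) : Set (G ⧸ center G)) :=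
    hAb.trans (centralizer_le_normalizer _)
  have hbo : orderOf (π b) = 2 := orderOf_pi C.hb C.br
  have hgo : orderOf (π g) = 2 := orderOf_pi C.hg C.gr
  have hcases : ∀ a ∈ A, a = 1 ∨ a = π b ∨ a = π g ∨ a = π b * π g := by
    intro a ha
    obtain ⟨u, hu, v, hv, rfl⟩ := (CfsgLib.Coprime.mem_sup_of_le_normalizer hAn).1 ha
    obtain ⟨i, rfl⟩ := mem_zpowers_iff.1 hu
    obtain ⟨j, rfl⟩ := mem_zpowers_iff.1 hv
    rw [← zpow_mod_orderOf (π b) i, ← zpow_mod_orderOf (π g) j, hbo, hgo]
    rcases Int.emod_two_eq_zero_or_one i with e1 | e1 <;> rcases Int.emod_two_eq_zero_or_one j with e2 | e2 <;>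
      simp [e1, e2]
  have hAc : IsMulCommutative A := by
    refine ⟨⟨fun u v => Subtype.ext ?_⟩⟩
    have hbg : Commute (π b) (π g) := (mem_cmod.1 C.comm).symm
    have key : ∀ w ∈ A, Commute w (π b) ∧ Commute w (π g) := by
      intro w hw
      rcases hcases w hw with rfl | rfl | rfl | rfl
      · exact ⟨Commute.one_left _, Commute.one_left _⟩
      · exact ⟨Commute.refl _, hbg⟩
      · exact ⟨hbg.symm, Commute.refl _⟩
      · exact ⟨(Commute.refl _).mul_left hbg.symm, hbg.mul_left (Commute.refl _)⟩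
    obtain ⟨h1, h2⟩ := key u u.2
    rcases hcases v v.2 with e | e | e | e <;> show (u : G ⧸ center G) * v = v * u <;> rw [e]
    · exact (Commute.one_right _).eq
    · exact h1.eq
    · exact h2.eq
    · exact (h1.mul_right h2).eq
  have hbg : π g ∉ zpowers (π b) := by
    intro h
    obtain ⟨i, hi⟩ := mem_zpowers_iff.1 h
    rw [← map_zpow] at hi
    refine C.ne ?_
    have h1 := (cent b).mul_mem ((cent b).zpow_mem (self_mem_cent b) i)
      (cent_inf_center b (QuotientGroup.eq.1 hi))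
    rwa [mul_inv_cancel_left] at h1
  have hnc : ¬ IsCyclic A := by
    intro hcyc
    obtain ⟨⟨c, hc⟩, hgen⟩ := hcyc.exists_generator
    have hmem : ∀ a ∈ A, a ∈ zpowers c := fun a ha => by
      obtain ⟨j, hj⟩ := mem_zpowers_iff.1 (hgen ⟨a, ha⟩)
      exact ⟨j, congrArg Subtype.val hj⟩
    have hc2 : c = 1 ∨ orderOf c = 2 := by
      have hbg' : Commute (π b) (π g) := (mem_cmod.1 C.comm).symm
      have : c ^ 2 = 1 := by
        rcases hcases c hc with rfl | rfl | rfl | rfl
        · exact one_pow _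
        · exact hfour
        · rw [← map_pow]; exact pi_eq_one.2 C.gr
        · rw [hbg'.mul_pow, hfour, ← map_pow, one_mul]; exact pi_eq_one.2 C.gr
      exact (em (c = 1)).imp_right fun h => orderOf_eq_prime this h
    rcases hc2 with rfl | hc2
    · have := hmem _ (mem_sup_left (mem_zpowers (π b)))
      rw [zpowers_one_eq_bot, mem_bot] at this
      exact C.hb.2.1 (pi_eq_one.1 this)
    · refine hbg ?_
      have he : zpowers (π b) = zpowers c := eq_of_le_of_card_ge
        (zpowers_le.2 (hmem _ (mem_sup_left (mem_zpowers _)))) (by rw [Nat.card_zpowers, Nat.card_zpowers, hc2, hbo])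
      rw [he]
      exact hmem _ (mem_sup_right (mem_zpowers _))
  have hcopA : (Nat.card A).Coprime (Nat.card (M'.map π)) := by
    refine Nat.Coprime.coprime_dvd_right (M'.card_map_dvd π) ?_
    have hA2 : IsPGroup 2 A := (isPGroup_zpowers ⟨1, by rw [pow_one]; exact hfour⟩).to_sup_of_normal_left'
      (isPGroup_zpowers ⟨1, by rw [pow_one, ← map_pow]; exact pi_eq_one.2 C.gr⟩) hAn
    obtain ⟨e, he⟩ := IsPGroup.iff_card.1 hA2
    rw [he]
    exact hM'card.symm.pow_left e
  have hAM : A ≤ normalizer (M'.map π : Set (G ⧸ center G)) :=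
    sup_le (zpowers_le.2 (hM'n b (le_normalizer (self_mem_cent b)))) (zpowers_le.2 (hM'n g hgn))
  have hgen := CfsgLib.Coprime.iSup_centralizer_eq hAc hnc hAM hcopA
  have hM'b : M' ≤ cent b := by
    have hsmall : M'.map π ≤ (cent b).map π := by
      rw [← hgen]
      refine iSup_le fun ⟨a, haA, ha1⟩ => ?_
      rintro y ⟨hy, hya⟩
      obtain ⟨v, hv, rfl⟩ := mem_map.1 hy
      refine mem_map_of_mem π (hKD ⟨((hM'mem v).1 hv).1, ?_⟩)
      have key : ∀ w : G, w ∈ cent x → Pr w 2 → a = π w → v ∈ cent x := by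
        intro w hwx hw e
        refine T.mem_x hw hwx (mem_cent.2 (commute_of_cmod (mem_cmod.2 ?_) ?_))
        · have h1 := mem_centralizer_iff.1 hya a (Set.mem_singleton a)
          rw [e] at h1
          exact h1.symm
        · obtain ⟨j, hj⟩ := pel_of_pr hw
          exact (coprime_of_pel hj ((hM'mem v).1 hv).2).symm
      rcases hcases a haA with e | e | e | e
      · exact absurd e ha1
      · exact key b C.bx C.hb e
      · exact key g C.gx C.hg e
      · refine key (b * g) (mul_mem C.bx C.gx) ?_ (by rw [e, map_mul])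
        obtain ⟨i, hi⟩ := T.r_mul C.hb hbX hgel hgn
        exact pr_of_pel Nat.prime_two hi fun h => C.ne (((cent b).mul_mem_cancel_left (self_mem_cent b)).1
          (cent_inf_center b h))
    intro v hv
    obtain ⟨w, hw, hwv⟩ := mem_map.1 (hsmall (mem_map_of_mem π hv))
    have h1 := (cent b).mul_mem hw (cent_inf_center b (QuotientGroup.eq.1 hwv))
    rwa [mul_inv_cancel_left] at h1
  have hKb : K ≤ cent b := by
    intro k hk
    obtain ⟨⟨e1, e2⟩, he⟩ := hMP.2 ⟨k, hk⟩
    rw [show k = ((e1 : K) : G) * (e2 : K) from (congrArg Subtype.val he).symm]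
    refine mul_mem (hM'b (mem_map_of_mem _ e1.2)) (part_le _ 2 (show ((e2 : K) : G) ∈ X from ?_))
    exact hP.le e2.2
  -- a `q`-element normalising the `q`-part from outside
  obtain ⟨Q, hQ⟩ := (part_isPGroup hab q).exists_le_sylow
  obtain ⟨v, -, hvn, hvV, hvo⟩ := CfsgLib.Perm.ThreeSizes.Thick.exists_normalizing (part_isPGroup hab q) hQ (by
    have h1 := T.two.hyp.fac_cent T.qm (g := b) (Or.inr (T.nm C.hb))
    have h2 := T.two.q_prime.factorization_pos_of_dvd (by have := T.two.hyp.one_lt_n; omega : n ≠ 0) T.two.q_dvd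
    rw [CfsgLib.Perm.ThreeSizes.Thick.factorization_part hab q, Q.card_eq_multiplicity,
      T.two.q_prime.factorization_pow, Finsupp.single_eq_same]
    omega)
  have hKeq : K = cent b := le_antisymm hKb hbK
  have hvK : v ∈ normalizer (cent b : Set G) := hKeq ▸ mem_normalizer_fintype fun k hk => mem_centralizer_iff.2
    fun w hw => by
      have h1 := mem_centralizer_iff.1 hk (v⁻¹ * w * v)
        (CfsgLib.Perm.ThreeSizes.Thick.conj_mem_normalizer hvn hw).2
      calc w * (v * k * v⁻¹) = v * (v⁻¹ * w * v * k) * v⁻¹ := by group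
        _ = v * (k * (v⁻¹ * w * v)) * v⁻¹ := by rw [h1]
        _ = v * k * v⁻¹ * w := by group
  have hvn2 := CfsgLib.Perm.ThreeSizes.Thick.normalizer_le_part hab 2 hvK
  have hv2 : (orderOf v).Coprime 2 := coprime_of_ne T.two.q_prime Nat.prime_two (Ne.symm T.rq) hvo
  refine hvV ((mem_part hab).2 ⟨mem_cent.2 (commute_of_cmod (mem_cmod.2 (mul_inv_eq_iff_eq_mul.1 ?_)) ?_),
    (CfsgLib.Perm.ThreeSizes.Thick.order_pow_iff T.two.q_prime).2 hvo⟩)
  · rw [← map_inv, ← map_mul, ← map_mul]
    refine huniq _ (CfsgLib.Perm.ThreeSizes.Thick.conj_mem_normalizer hvn2 hbX).1 ?_ (C.hb.conj v).2.1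
    rw [conj_pow]
    exact (inferInstance : (center G).Normal).conj_mem _ C.br v
  · obtain ⟨j, hj⟩ := pel_of_pr C.hb
    exact (coprime_of_pel hj hv2).symm

end Third

end CfsgLib.Perm.FourSizes
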