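import Cfsg.Agent.Lib.Perm.FourSizes.Split

/-!
# An element of class size `n` whose prime does not divide `m`
-/

set_option autoImplicit false
set_option linter.unusedSectionVars false

namespace CfsgLib.Perm.FourSizes

open Subgroup
open CfsgLib.InvChar.ConjRank (cent mem_cent self_mem_cent mem_cent_comm cent_le_pow)
open CfsgLib.Perm.ThreeSizes.Thick (Pr cent_mul_eq cent_inf_center cent_eq_top)

universe u
variable {G : Type u} [Group G] [Finite G]

/-- A centraliser of index prime to `r` contains a Sylow `r`-subgroup. -/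
theorem exists_sylow_le {r : ℕ} [Fact r.Prime] {g : G} (h : ¬ r ∣ (cent g).index) :
    ∃ R : Sylow r G, (R : Subgroup G) ≤ cent g := by
  obtain ⟨R⟩ := (inferInstance : Nonempty (Sylow r G))
  obtain ⟨c, hc⟩ := full_conj h R
  refine ⟨c⁻¹ • R, fun u hu => mem_cent.2 ?_⟩
  have hu' : c * u * c⁻¹ ∈ (R : Subgroup G) := by
    rw [Sylow.coe_subgroup_smul, mem_pointwise_smul_iff_inv_smul_mem] at hu
    simpa [MulAut.smul_def] using hu
  simpa [mul_assoc] using (mem_cent.1 (hc hu')).map (MulAut.conj c⁻¹)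

theorem not_dvd_relIndex {r : ℕ} [Fact r.Prime] (R : Sylow r G) {C K : Subgroup G}
    (hC : (R : Subgroup G) ≤ C) (hK : (R : Subgroup G) ≤ K) : ¬ r ∣ C.relIndex K := fun h =>
  R.not_dvd_index ((h.trans (relIndex_dvd_of_le_left K hC)).trans
    (dvd_of_mul_right_eq _ (relIndex_mul_index hK)))

variable {n m : ℕ} (H : Hyp G n m)
include H

/-- The centraliser of a `p`-element of class size `n`, `p ∤ m`: then `m` is a prime power. -/
theorem Hyp.side {x : G} {p : ℕ} (hx : Pr x p) (hxn : (cent x).index = n) (hpm : ¬ p ∣ m) :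
    ∃ q b : ℕ, q.Prime ∧ q ≠ p ∧ 0 < b ∧ m = q ^ b ∧
      (∀ s ∈ cent x, ∀ w ∈ cent x, (∃ i, s ^ q ^ i = 1) → (orderOf w).Coprime q → Commute s w) ∧
      ∃ s ∈ cent x, Pr s q ∧ ¬ cent x ≤ cent s := by
  have hp := hx.1
  haveI := Fact.mk hp
  obtain ⟨i, hi⟩ := pel_of_pr hx
  have hrel : ∀ w ∈ cent x, (orderOf w).Coprime p →
      (cent w).relIndex (cent x) = 1 ∨ (cent w).relIndex (cent x) = m := fun w hw hwp =>
    H.rel_cases hxn (mem_cent.1 hw).symm (coprime_of_pel hi hwp)
  obtain ⟨K, hK⟩ := split (K := cent x) (p := p) fun w hw hwp hd => by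
    rcases hrel w hw hwp with e | e <;> rw [e] at hd
    · exact hp.not_dvd_one hd
    · exact hpm hd
  have hKrel : ∀ w ∈ K, (cent w).relIndex K = 1 ∨ (cent w).relIndex K = m := fun w hw => by
    rw [hK.relIndex_eq hw]
    exact hrel w ((hK.1 w).1 hw).1 ((hK.1 w).1 hw).2
  -- the complement is not abelian
  have hnab : ¬ ∀ u ∈ K, ∀ v ∈ K, Commute u v := by
    intro hab
    obtain ⟨r, hr, hrm⟩ := Nat.exists_prime_and_dvd (by have := H.one_lt_m; omega : m ≠ 1)
    haveI := Fact.mk hr
    have hrn : ¬ r ∣ n := fun h => hr.not_dvd_one (H.cop.gcd_eq_one ▸ Nat.dvd_gcd h hrm)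
    obtain ⟨R, hR⟩ := exists_sylow_le (hxn.symm ▸ hrn : ¬ r ∣ (cent x).index)
    obtain ⟨g, hg⟩ := H.exm
    obtain ⟨z, hzR, hzc⟩ := sylow_noncentral (hg.symm ▸ hrm) R
    have hrp : r ≠ p := fun e => hpm (e ▸ hrm)
    have hRK : (R : Subgroup G) ≤ K := fun w hw => by
      obtain ⟨j, hj⟩ := R.isPGroup' ⟨w, hw⟩
      exact (hK.1 w).2 ⟨hR hw, Nat.Coprime.coprime_dvd_left
        (orderOf_dvd_of_pow_eq_one (show w ^ r ^ j = 1 from congrArg Subtype.val hj))
        (((Nat.coprime_primes hr hp).2 hrp).pow_left j)⟩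
    have hDz : cent x ≤ cent z := fun k hk => mem_cent.2 (by
      obtain ⟨a, ha, u, hu, hup, rfl⟩ := hK.exists_parts hk
      exact (hab a ha z (hRK hzR)).mul_left (hK.2 u hu z (hRK hzR) hup))
    have hzD : cent x = cent z := H.eq_of_n hxn hzc hDz
    have hpD : ∀ u ∈ cent x, (∃ i, u ^ p ^ i = 1) → cent x ≤ cent u := by
      intro u hu ⟨j, hj⟩
      obtain ⟨l, hl⟩ := R.isPGroup' ⟨z, hzR⟩
      have h1 := H.rel_cases (u := z) (v := u) (hzD ▸ hxn) (mem_cent.1 (hzD ▸ hu : u ∈ cent z)).symm
        (CfsgLib.OddLocal.coprime_orderOf_of_prime_ne hr hp hrp (congrArg Subtype.val hl) hj)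
      rw [← hzD] at h1
      refine relIndex_eq_one.1 (h1.resolve_right fun e => not_dvd_relIndex R ?_ hR (e.symm ▸ hrm))
      exact fun w hw => mem_cent.2 (hK.2 u hu w (hRK hw) ⟨j, hj⟩).symm
    have hDab : ∀ v ∈ cent x, cent x ≤ cent v := fun v hv k hk => mem_cent.2 (by
      obtain ⟨a, ha, u, hu, hup, rfl⟩ := hK.exists_parts hv
      refine Commute.mul_right ?_ (mem_cent.1 (hpD u hu hup hk))
      obtain ⟨b, hb, t, ht, htp, rfl⟩ := hK.exists_parts hk
      exact (hab b hb a ha).mul_left (hK.2 t ht a ha htp))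
    obtain ⟨v, hv, hvc⟩ := H.exists_inf hxn hg
    have h2 : g ∈ cent x := (H.eq_of_n hxn hvc (hDab v hv.1)).ge (mem_cent_comm.1 hv.2)
    have h3 := index_dvd_of_le (hDab g h2)
    rw [hxn, hg] at h3
    exact H.symm.not_dvd_cross.1 h3
  obtain hab | ⟨q, b, hq, hb, hmq, hc⟩ := one_size H.one_lt_m hKrel
  · exact absurd hab hnab
  have hqp : q ≠ p := fun e => hpm (e ▸ hmq ▸ dvd_pow_self q hb.ne')
  have hqK : ∀ {s : G}, s ∈ cent x → (∃ i, s ^ q ^ i = 1) → s ∈ K := fun {s} hs ⟨j, hj⟩ =>
    (hK.1 s).2 ⟨hs, Nat.Coprime.coprime_dvd_left (orderOf_dvd_of_pow_eq_one hj)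
      (((Nat.coprime_primes hq hp).2 hqp).pow_left j)⟩
  refine ⟨q, b, hq, hqp, hb, hmq, fun s hs w hw hsq hwq => ?_, ?_⟩
  · refine (mem_cent.1 (CfsgLib.StructC.ClassCoprime.mem_of_primary (K := cent s) fun k l hl ⟨j, hj⟩ => mem_cent.2 ?_)).symm
    rcases eq_or_ne l p with rfl | hlp
    · exact hK.2 _ ((cent x).pow_mem hw k) s (hqK hs hsq) ⟨j, hj ▸ pow_orderOf_eq_one _⟩
    · exact hc _ ((hK.1 _).2 ⟨(cent x).pow_mem hw k, coprime_of_ne hl hp hlp ⟨j, hj⟩⟩)
        (hwq.coprime_dvd_left (orderOf_pow_dvd k)) s (hqK hs hsq)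
  · by_contra hcon
    refine hnab (CfsgLib.Perm.ThreeSizes.Thick.comm_of_primary fun u hu v hv hup _ => ?_)
    obtain ⟨l, j, hl, hj⟩ := hup
    rcases eq_or_ne l q with rfl | hlq
    · have hux := ((hK.1 u).1 hu).1
      by_cases huc : u ∈ center G
      · exact (mem_center_iff.1 huc v).symm
      · have hle : cent x ≤ cent u := by_contra fun h => hcon ⟨u, hux, ⟨hl, huc, j, hj⟩, h⟩
        exact (mem_cent.1 (hle ((hK.1 v).1 hv).1)).symm
    · exact hc u hu (coprime_of_ne hl hq hlq ⟨j, hj⟩) v hv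

/-- The theorem when some element of class size `n` has prime not dividing `m`. -/
theorem Hyp.main {x : G} {p : ℕ} (hx : Pr x p) (hxn : (cent x).index = n) (hpm : ¬ p ∣ m) :
    Group.IsNilpotent G ∧ IsPrimePow n ∧ IsPrimePow m := by
  obtain ⟨q, b, hq, hqp, hb, hmq, -, s0, hs0, hs0q, hs0n⟩ := H.side hx hxn hpm
  haveI := Fact.mk hq
  have hp := hx.1
  have hqm : q ∣ m := hmq ▸ dvd_pow_self q hb.ne'
  have hqn : ¬ q ∣ n := fun h => hq.not_dvd_one (H.cop.gcd_eq_one ▸ Nat.dvd_gcd h hqm)
  have hD : ∀ c : G, ∀ s ∈ cent (c * x * c⁻¹), ∀ w ∈ cent (c * x * c⁻¹),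
      (∃ i, s ^ q ^ i = 1) → (orderOf w).Coprime q → Commute s w := by
    intro c
    obtain ⟨q', b', hq', -, hb', hm', hcomm, -⟩ := H.side (hx.conj c) ((index_cent_conj c x).trans hxn) hpm
    obtain rfl : q = q' := (Nat.prime_dvd_prime_iff_eq hq hq').1 (hq.dvd_of_dvd_pow (hm' ▸ hqm))
    exact hcomm
  have hfullw : ∀ c : G, ∀ w ∈ cent (c * x * c⁻¹), (orderOf w).Coprime q → ¬ q ∣ (cent w).index := by
    intro c w hw hwq hd
    obtain ⟨R, hR⟩ := exists_sylow_le ((index_cent_conj c x).trans hxn ▸ hqn : ¬ q ∣ (cent (c * x * c⁻¹)).index)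
    refine R.not_dvd_index (hd.trans (index_dvd_of_le fun s hs => mem_cent.2 ?_))
    obtain ⟨j, hj⟩ := R.isPGroup' ⟨s, hs⟩
    exact hD c s (hR hs) w hw ⟨j, congrArg Subtype.val hj⟩ hwq
  -- no element of order prime to `q` has class size divisible by `q`
  have claim : ∀ w : G, (orderOf w).Coprime q → ¬ q ∣ (cent w).index := by
    intro w hwq hd
    have hwidx : (cent w).index.factorization q = b := by
      have hnm : m.factorization q = b := by rw [hmq, hq.factorization_pow, Finsupp.single_eq_same]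
      rcases H.size w with e | e | e | e <;> rw [e] at hd ⊢
      · exact absurd hd hq.not_dvd_one
      · exact absurd hd hqn
      · exact hnm
      · rw [Nat.factorization_mul (by have := H.one_lt_n; omega) (by have := H.one_lt_m; omega),
          Finsupp.add_apply, hnm, Nat.factorization_eq_zero_of_not_dvd hqn, zero_add]
    obtain ⟨S0⟩ := (inferInstance : Nonempty (Sylow q (cent w)))
    set S := (S0 : Subgroup (cent w)).map (cent w).subtype with hSdef
    have hSw : S ≤ cent w := map_subtype_le _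
    have hS : IsPGroup q S := S0.isPGroup'.map _
    have hScard : Nat.card S = q ^ (Nat.card (cent w)).factorization q := by
      rw [hSdef, card_map_of_injective (subtype_injective _), S0.card_eq_multiplicity]
    have hSfac : (Nat.card S).factorization q = (Nat.card (cent w)).factorization q := by
      rw [hScard, hq.factorization_pow, Finsupp.single_eq_same]
    -- `S` is not central
    obtain ⟨u, huS, huq⟩ : ∃ u ∈ S, Pr u q := by
      obtain ⟨i, hi⟩ := pel_of_pr hx
      have hxs : Commute x s0 := (mem_cent.1 hs0).symm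
      have hco := hx.coprime hs0q hqp.symm
      have hidx : (cent (x * s0)).index = n * m := by
        have h1 := (H.rel_cases hxn hxs hco).resolve_left fun e => hs0n (relIndex_eq_one.1 e)
        have h2 := relIndex_mul_index (inf_le_left : cent x ⊓ cent s0 ≤ cent x)
        rw [inf_relIndex_left, h1, hxn, ← cent_mul_eq hxs hco] at h2
        rw [← h2, mul_comm]
      have h1 := fac_center_lt (cent_inf_center (x * s0)) hs0q
        (mem_cent.2 (hxs.symm.mul_right (Commute.refl s0)))
      refine CfsgLib.Perm.ThreeSizes.Thick.exists_pr hq (h1.trans_le (le_of_eq ?_))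
      have h2 := fac_card_index (cent (x * s0)) q
      have h3 := fac_card_index (cent w) q
      rw [hidx, Nat.factorization_mul (by have := H.one_lt_n; omega) (by have := H.one_lt_m; omega),
        Finsupp.add_apply, Nat.factorization_eq_zero_of_not_dvd hqn, hmq, hq.factorization_pow,
        Finsupp.single_eq_same] at h2
      omega
    have huw : u ∈ cent w := hSw huS
    obtain ⟨iu, hiu⟩ := pel_of_pr huq
    have huidx : (cent u).index = m := by
      rcases H.cases huq.2.1 with e | e | e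
      · exfalso
        obtain ⟨R, hR⟩ := exists_sylow_le (e ▸ hqn : ¬ q ∣ (cent u).index)
        have huR : u ∈ (R : Subgroup G) := by
          have hZ : IsPGroup q (zpowers u) := by
            obtain ⟨j, -, hj⟩ := (Nat.dvd_prime_pow hq).1 (orderOf_dvd_of_pow_eq_one hiu)
            exact IsPGroup.of_card (n := j) (by rw [Nat.card_zpowers, hj])
          have hn' : (R : Subgroup G) ≤ normalizer (zpowers u : Set G) := fun y hy =>
            mem_normalizer_fintype fun z hz => by
              obtain ⟨j, rfl⟩ := mem_zpowers_iff.1 hz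
              rw [((mem_cent.1 (hR hy)).zpow_right j).eq, mul_inv_cancel_right]
              exact zpow_mem (mem_zpowers u) j
          have h1 := R.3 (hZ.to_sup_of_normal_left' R.isPGroup' hn') le_sup_right
          exact h1.le (mem_sup_left (mem_zpowers u))
        obtain ⟨c, hc⟩ := full_conj (hxn.symm ▸ hqn : ¬ q ∣ (cent x).index) R
        have hle : cent (c * x * c⁻¹) ≤ cent u := by
          rw [← subgroupOf_eq_top]
          refine CfsgLib.Solvable.eq_top_of_forall_prime fun l hl hd' => ?_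
          haveI := Fact.mk hl
          rcases eq_or_ne l q with rfl | hlq
          · exact not_dvd_relIndex R hR hc hd'
          · obtain ⟨L⟩ := (inferInstance : Nonempty (Sylow l (cent (c * x * c⁻¹))))
            refine L.not_dvd_index (hd'.trans (index_dvd_of_le fun k hk => mem_subgroupOf.2 (mem_cent.2 ?_)))
            obtain ⟨j, hj⟩ := L.isPGroup' ⟨k, hk⟩
            refine (hD c u (hc huR) k k.2 ⟨iu, hiu⟩ (Nat.Coprime.coprime_dvd_left
              (orderOf_dvd_of_pow_eq_one (x := (k : G)) ?_) (((Nat.coprime_primes hl hq).2 hlq).pow_left j))).symm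
            rw [← SubmonoidClass.coe_pow, show k ^ l ^ j = 1 from congrArg Subtype.val hj, OneMemClass.coe_one]
        have heq := H.eq_of_n ((index_cent_conj c x).trans hxn) huq.2.1 hle
        exact hfullw c w (heq.ge (mem_cent_comm.1 huw)) hwq hd
      · exact e
      · exfalso
        have hZ : IsPGroup q (zpowers u) := by
          obtain ⟨j, -, hj⟩ := (Nat.dvd_prime_pow hq).1 (orderOf_dvd_of_pow_eq_one hiu)
          exact IsPGroup.of_card (n := j) (by rw [Nat.card_zpowers, hj])
        obtain ⟨R, hR⟩ := hZ.exists_le_sylow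
        obtain ⟨c, hc⟩ := full_conj (hxn.symm ▸ hqn : ¬ q ∣ (cent x).index) R
        have hux : Commute u (c * x * c⁻¹) := mem_cent.1 (hc (hR (mem_zpowers u)))
        exact hfullw c w (H.cent_le_of_max e hux (huq.coprime (hx.conj c) hqp) (mem_cent_comm.1 huw)) hwq hd
    have hEnil : Group.IsNilpotent (cent u) := by
      have hrel : ∀ t ∈ cent u, (orderOf t).Coprime q →
          (cent t).relIndex (cent u) = 1 ∨ (cent t).relIndex (cent u) = n := fun t ht htq =>
        H.symm.rel_cases huidx (mem_cent.1 ht).symm (coprime_of_pel hiu htq)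
      obtain ⟨Hu, hHu⟩ := split (K := cent u) (p := q) fun t ht htq hd' => by
        rcases hrel t ht htq with e | e <;> rw [e] at hd'
        · exact hq.not_dvd_one hd'
        · exact hqn hd'
      refine hHu.isNilpotent (fun l r hl hr hne a ha c hc i j hi hj => ?_) hq
      exact one_size_commute H.one_lt_n (fun t ht => by
        rw [hHu.relIndex_eq ht]
        exact hrel t ((hHu.1 t).1 ht).1 ((hHu.1 t).1 ht).2) hl hr hne ha hc hi hj
    set K := centralizer (S : Set G) with hKdef
    have hKnil : Group.IsNilpotent K := CfsgLib.OddLocal.isNilpotent_of_le hEnil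
      fun k hk => mem_cent.2 (mem_centralizer_iff.1 hk u huS).symm
    obtain ⟨Q, hQ⟩ := hS.exists_le_sylow
    obtain ⟨v, hvQ, hvN, hvS, j, hj⟩ := CfsgLib.Perm.ThreeSizes.Thick.exists_normalizing hS hQ (by
      rw [hSfac, Q.card_eq_multiplicity, hq.factorization_pow, Finsupp.single_eq_same,
        fac_card_index (cent w) q, hwidx]
      omega)
    obtain ⟨c, hc⟩ := full_conj (hxn.symm ▸ hqn : ¬ q ∣ (cent x).index) Q
    have hx'K : c * x * c⁻¹ ∈ K := mem_centralizer_iff.2 fun s hs => (mem_cent.1 (hc (hQ hs))).eq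
    have hvK : v ∈ normalizer (K : Set G) := mem_normalizer_fintype fun k hk => mem_centralizer_iff.2 fun s hs => by
      have h1 := mem_centralizer_iff.1 hk (v⁻¹ * s * v)
        (CfsgLib.Perm.ThreeSizes.Thick.conj_mem_normalizer hvN hs).2
      calc s * (v * k * v⁻¹) = v * (v⁻¹ * s * v * k) * v⁻¹ := by group
        _ = v * (k * (v⁻¹ * s * v)) * v⁻¹ := by rw [h1]
        _ = v * k * v⁻¹ * s := by group
    have hvq : (v : G) ^ q ^ j = 1 := hj ▸ pow_orderOf_eq_one v
    have hwK : ∀ k : ℕ, w ^ k ∈ K := fun k => mem_centralizer_iff.2 fun s hs =>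
      ((mem_cent.1 (hSw hs)).pow_right k).eq
    have hvw : v ∈ cent w := by
      refine mem_cent_comm.1 (CfsgLib.StructC.ClassCoprime.mem_of_primary fun k l hl ⟨e, he⟩ => mem_cent.2 ?_)
      rcases eq_or_ne l q with rfl | hlq
      · rw [eq_one_of_pel (he ▸ pow_orderOf_eq_one _) (hwq.coprime_dvd_left (orderOf_pow_dvd k))]
        exact Commute.one_left v
      have hel : (w ^ k) ^ l ^ e = 1 := he ▸ pow_orderOf_eq_one _
      obtain ⟨i', hi'⟩ := pel_of_pr (hx.conj c)
      rcases eq_or_ne l p with rfl | hlp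
      · haveI := Fact.mk hl
        refine (axb (CfsgLib.OddLocal.pPart_isPGroup l K)
          (le_normalizer (CfsgLib.OddLocal.mem_pPart hKnil hx'K hi')) ⟨i', hi'⟩
          (CfsgLib.OddLocal.normalizer_le_normalizer_pPart l K hvK) (v := v)
          (Nat.Coprime.coprime_dvd_left (orderOf_dvd_of_pow_eq_one hvq)
            (((Nat.coprime_primes hq hl).2 hlq.symm).pow_left j))
          (mem_cent.1 (hc hvQ)).symm (fun y hy hxy => ?_) _
          (CfsgLib.OddLocal.mem_pPart hKnil (hwK k) hel)).symm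
        obtain ⟨iy, hiy⟩ := CfsgLib.OddLocal.pPart_isPGroup l K ⟨y, hy⟩
        exact hD c v (hc hvQ) y (mem_cent.2 hxy.symm) ⟨j, hvq⟩ (Nat.Coprime.coprime_dvd_left
          (orderOf_dvd_of_pow_eq_one (show y ^ l ^ iy = 1 from congrArg Subtype.val hiy))
          (((Nat.coprime_primes hl hq).2 hlq).pow_left iy))
      · refine (hD c v (hc hvQ) (w ^ k) (mem_cent.2 ?_) ⟨j, hvq⟩ (hwq.coprime_dvd_left (orderOf_pow_dvd k))).symm
        exact CfsgLib.OddLocal.commute_of_mem_nilpotent hKnil (hwK k) hx'K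
          (CfsgLib.OddLocal.coprime_orderOf_of_prime_ne hl hp hlp hel hi')
    refine hvS ?_
    have hT : IsPGroup q (S ⊔ zpowers v : Subgroup G) :=
      hS.to_sup_of_normal_left' (IsPGroup.of_card (n := j) (by rw [Nat.card_zpowers, hj])) (zpowers_le.2 hvN)
    obtain ⟨e, he⟩ := IsPGroup.iff_card.1 hT
    have h1 : S = S ⊔ zpowers v := by
      refine eq_of_le_of_card_ge le_sup_left ?_
      rw [he, hScard]
      exact Nat.pow_le_pow_right hq.pos ((hq.pow_dvd_iff_le_factorization Nat.card_pos.ne').1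
        (he ▸ card_dvd_of_le (sup_le hSw (zpowers_le.2 hvw))))
    exact h1.ge (mem_sup_right (mem_zpowers v))
  obtain ⟨K, hK⟩ := split (K := (⊤ : Subgroup G)) (p := q) fun w _ hw => by
    rw [relIndex_top_right]; exact claim w hw
  have hKrel : ∀ w ∈ K, (cent w).relIndex K = 1 ∨ (cent w).relIndex K = n := fun w hw => by
    rw [hK.relIndex_eq hw, relIndex_top_right]
    have h1 := claim w ((hK.1 w).1 hw).2
    rcases H.size w with e | e | e | e
    · exact Or.inl e
    · exact Or.inr e
    · exact absurd (e ▸ hqm) h1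
    · exact absurd (e ▸ hqm.mul_left n) h1
  refine ⟨?_, ?_, (isPrimePow_nat_iff m).2 ⟨q, b, hq, hb, hmq.symm⟩⟩
  · have hnil := hK.isNilpotent (fun l r hl hr hne a ha c hc i j hi hj =>
      one_size_commute H.one_lt_n hKrel hl hr hne ha hc hi hj) hq
    exact (Group.isNilpotent_congr topEquiv).mp hnil
  · rcases one_size H.one_lt_n hKrel with hab | ⟨l, a, hl, ha, hna, -⟩
    · refine absurd (mem_center_iff.2 fun g => ?_) hx.2.1
      have hxK : x ∈ K := (hK.1 x).2 ⟨mem_top x, coprime_of_ne hp hq hqp.symm hx.2.2⟩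
      obtain ⟨a, ha, u, hu, hup, rfl⟩ := hK.exists_parts (mem_top g)
      exact ((hab a ha x hxK).mul_left (hK.2 u hu x hxK hup)).eq
    · exact (isPrimePow_nat_iff n).2 ⟨l, a, hl, ha, hna.symm⟩

end CfsgLib.Perm.FourSizes
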