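import Cfsg.Agent.Lib.Perm.FourSizes.Pair
import Cfsg.Agent.Lib.Perm.FourSizes.Average

/-!
# A third prime: the abelian members inside a centraliser of index `n`
-/

set_option autoImplicit false
set_option linter.unusedSectionVars false

namespace CfsgLib.Perm.FourSizes

open Subgroup
open CfsgLib.InvChar.ConjRank (cent mem_cent self_mem_cent mem_cent_comm cent_le_pow)
open CfsgLib.Perm.ThreeSizes.Thick (Pr cent_mul_eq cent_inf_center cent_eq_top exists_pr cmod mem_cmod
  mem_cmod_iff commute_of_cmod InvAt part mem_part part_le part_isPGroup)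

universe u
variable {G : Type u} [Group G] [Finite G]

local notation "π" => QuotientGroup.mk' (center G)

theorem pel_mul_of_mem {r : ℕ} {P : Subgroup G} (hP : IsPGroup r P) {u : G} (hu : u ∈ P) :
    ∃ i, u ^ r ^ i = 1 := by
  obtain ⟨i, hi⟩ := hP ⟨u, hu⟩
  exact ⟨i, congrArg Subtype.val hi⟩

theorem isPGroup_zpowers {r : ℕ} [Fact r.Prime] {u : G} (hu : ∃ i, u ^ r ^ i = 1) :
    IsPGroup r (zpowers u) := by
  obtain ⟨i, hi⟩ := hu
  obtain ⟨j, -, hj⟩ := (Nat.dvd_prime_pow Fact.out).1 (orderOf_dvd_of_pow_eq_one hi)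
  exact IsPGroup.of_card (n := j) (by rw [Nat.card_zpowers, hj])

/-- A `r`-element normalising a `r`-subgroup with full `r`-part in `K` lies in it. -/
theorem mem_of_full {r : ℕ} [Fact r.Prime] {P K : Subgroup G} (hP : IsPGroup r P) (hPK : P ≤ K) {u : G}
    (hu : ∃ i, u ^ r ^ i = 1) (huK : u ∈ K) (hun : u ∈ normalizer (P : Set G))
    (h : (Nat.card K).factorization r ≤ (Nat.card P).factorization r) : u ∈ P := by
  have hr : r.Prime := Fact.out
  have hT : IsPGroup r (P ⊔ zpowers u : Subgroup G) :=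
    hP.to_sup_of_normal_left' (isPGroup_zpowers hu) (zpowers_le.2 hun)
  obtain ⟨a, ha⟩ := IsPGroup.iff_card.1 hT
  obtain ⟨b, hb⟩ := IsPGroup.iff_card.1 hP
  rw [hb, hr.factorization_pow, Finsupp.single_eq_same] at h
  have h1 : P = P ⊔ zpowers u := by
    refine eq_of_le_of_card_ge le_sup_left ?_
    rw [ha, hb]
    exact Nat.pow_le_pow_right hr.pos (((hr.pow_dvd_iff_le_factorization Nat.card_pos.ne').1
      (ha ▸ card_dvd_of_le (sup_le hPK (zpowers_le.2 huK)))).trans h)
  exact h1.ge (mem_sup_right (mem_zpowers u))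

/-- A third prime `r ∣ m`, and a fixed `x` of class size `n`. -/
structure Third (G : Type u) [Group G] (n m p q r : ℕ) (x : G) : Prop where
  two : Two G n m p q
  hx : Pr x p
  hxn : (cent x).index = n
  hr : r.Prime
  rp : r ≠ p
  rq : r ≠ q
  rm : r ∣ m

namespace Third

variable {n m p q r : ℕ} {x : G} (T : Third G n m p q r x)
include T

theorem rn : ¬ r ∣ n := T.two.hyp.not_dvd_n T.hr T.rm

theorem qm : ¬ q ∣ m := T.two.hyp.not_dvd_m T.two.q_prime T.two.q_dvd

theorem nm {z : G} (hz : Pr z r) : (cent z).index = n * m := T.two.index_other hz T.rp T.rq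

theorem abel {z : G} (hz : Pr z r) : ∀ u ∈ cent z, ∀ v ∈ cent z, Commute u v := by
  haveI := Fact.mk T.hr
  obtain ⟨c, hc⟩ := exists_conj_commute (T.hxn.symm ▸ T.rn) hz
  have hx' := T.hx.conj c
  have hx'n := (index_cent_conj c x).trans T.hxn
  generalize c * x * c⁻¹ = x' at hc hx' hx'n
  obtain ⟨s, hs, hsq⟩ := T.two.exists_q (Or.inr (T.nm hz))
  have hzs : cent z ≤ cent s :=
    T.two.hyp.cent_le_of_max (T.nm hz) (mem_cent.1 hs).symm (hz.coprime hsq T.rq)
  have hzx : cent z ≤ cent x' :=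
    T.two.hyp.cent_le_of_max (T.nm hz) (mem_cent.1 hc) (hz.coprime hx' T.rp)
  have hxs : Commute x' s := (mem_cent.1 (hzx hs)).symm
  have e := cent_mul_eq hxs (hx'.coprime hsq T.two.ne)
  have hidx := T.two.hyp.index_mul (hx'n ▸ dvd_rfl) (T.two.dvd_index hsq T.two.ne.symm) hxs
    (hx'.coprime hsq T.two.ne)
  have heq : cent z = cent (x' * s) := T.two.hyp.eq_max hidx (e ▸ le_inf hzx hzs)
  refine CfsgLib.Perm.ThreeSizes.Thick.comm_of_primary fun u hu v hv ⟨l, i, hl, hi⟩ _ => ?_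
  refine (mem_cent.1 ?_).symm
  rcases eq_or_ne l r with rfl | hlr
  · rw [heq] at hu hv
    refine T.two.hyp.cent_le_of_max hidx (mem_cent.1 hu).symm ?_ hv
    rw [hxs.orderOf_mul_eq_mul_orderOf_of_coprime (hx'.coprime hsq T.two.ne)]
    exact ((coprime_of_ne T.two.p_prime hl T.rp.symm hx'.2.2).pow_right i).mul_left
      ((coprime_of_ne T.two.q_prime hl T.rq.symm hsq.2.2).pow_right i) |>.coprime_dvd_right hi.dvd
  · refine T.two.hyp.cent_le_of_max (T.nm hz) (mem_cent.1 hu).symm ?_ hv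
    exact ((coprime_of_ne T.hr hl hlr.symm hz.2.2).pow_right i).coprime_dvd_right hi.dvd

theorem eq_member {z z' : G} (hz : Pr z r) (hz' : Pr z' r) (h : z' ∈ cent z) : cent z = cent z' :=
  T.two.hyp.eq_max (T.nm hz') fun k hk => mem_cent.2 (T.abel hz k hk z' h)

theorem mem_x {z : G} (hz : Pr z r) (hzx : z ∈ cent x) : cent z ≤ cent x :=
  T.two.hyp.cent_le_of_max (T.nm hz) (mem_cent.1 hzx) (hz.coprime T.hx T.rp)

theorem q_inf {z s : G} (hz : Pr z r) (hzx : z ∈ cent x) (hs : s ∈ cent z) (hsq : Pr s q) :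
    cent x ⊓ cent s = cent z := by
  have hle : cent z ≤ cent x ⊓ cent s := le_inf (T.mem_x hz hzx)
    (T.two.hyp.cent_le_of_max (T.nm hz) (mem_cent.1 hs).symm (hz.coprime hsq T.rq))
  have hxs : Commute x s := (mem_cent.1 (T.mem_x hz hzx hs)).symm
  have hco := T.hx.coprime hsq T.two.ne
  rw [← cent_mul_eq hxs hco] at hle ⊢
  exact (T.two.hyp.eq_max (T.two.hyp.index_mul (T.hxn ▸ dvd_rfl)
    (T.two.dvd_index hsq T.two.ne.symm) hxs hco) hle).symm

theorem mem_normalizer {z d : G} (hz : Pr z r) (h : d * z * d⁻¹ ∈ cent z) :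
    d ∈ normalizer (cent z : Set G) := by
  have e := T.eq_member hz (hz.conj d) h
  refine mem_normalizer_fintype fun k hk => ?_
  rw [SetLike.mem_coe, e, mem_cent]
  simpa using (mem_cent.1 hk).map (MulAut.conj d)

theorem mem_normalizer_cmod {z d : G} (hz : Pr z r) (h : d ∈ cmod z) :
    d ∈ normalizer (cent z : Set G) := by
  refine T.mem_normalizer hz ?_
  have h1 := (cent z).mul_mem (cent_inf_center z (mem_cmod_iff.1 h)) (self_mem_cent z)
  rwa [inv_mul_cancel_right] at h1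

/-- The `q`-part of a member is a Sylow subgroup of `cent x`. -/
theorem fac_q {z : G} (hz : Pr z r) :
    (Nat.card (cent x)).factorization q = (Nat.card (part (cent z) q)).factorization q := by
  haveI := Fact.mk T.two.q_prime
  rw [CfsgLib.Perm.ThreeSizes.Thick.factorization_part (T.abel hz) q]
  have h1 := T.two.hyp.fac_cent T.qm (g := x) (Or.inl T.hxn)
  have h2 := T.two.hyp.fac_cent T.qm (g := z) (Or.inr (T.nm hz))
  omega

theorem fac_r {z z' : G} (hz : Pr z r) (hz' : Pr z' r) :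
    (Nat.card (cent z)).factorization r = (Nat.card (cent z')).factorization r := by
  have h1 := fac_card_index (cent z) r
  have h2 := fac_card_index (cent z') r
  rw [T.nm hz] at h1
  rw [T.nm hz'] at h2
  omega

theorem fac_full {z : G} (hz : Pr z r) :
    (Nat.card (cent z)).factorization r < (Nat.card (cent x)).factorization r := by
  have h1 := fac_card_index (cent z) r
  have h2 := fac_card_index (cent x) r
  rw [T.nm hz] at h1
  rw [T.hxn, Nat.factorization_eq_zero_of_not_dvd T.rn] at h2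
  have h3 := T.hr.factorization_pos_of_dvd (Nat.mul_ne_zero (by have := T.two.hyp.one_lt_n; omega)
    (by have := T.two.hyp.one_lt_m; omega) : n * m ≠ 0) (T.rm.mul_left n)
  omega

/-- An element of `cent x` normalising a member and fixing one of its `q`-elements modulo the centre. -/
theorem mem_of_cmod {z s d : G} (hz : Pr z r) (hzx : z ∈ cent x) (hs : s ∈ cent z) (hsq : Pr s q)
    (hd : d ∈ cent x) (hdn : d ∈ normalizer (cent z : Set G)) (hds : d ∈ cmod s) : d ∈ cent z := by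
  haveI := Fact.mk T.two.q_prime
  obtain ⟨a, b, i, hab, ha, hb, hao, hbi⟩ := CfsgLib.Perm.CountingComplement.exists_parts q d
  rw [hab]
  refine mul_mem ?_ (part_le (cent z) q (mem_of_full (part_isPGroup (T.abel hz) q)
    ((part_le _ q).trans (T.mem_x hz hzx)) ⟨i, hbi⟩ ((zpowers_le.2 hd) hb)
    (CfsgLib.Perm.ThreeSizes.Thick.normalizer_le_part (T.abel hz) q ((zpowers_le.2 hdn) hb))
    (T.fac_q hz).le))
  rw [← T.q_inf hz hzx hs hsq]
  obtain ⟨j, hj⟩ := pel_of_pr hsq
  exact ⟨(zpowers_le.2 hd) ha, mem_cent.2 (commute_of_cmod ((zpowers_le.2 hds) ha) (coprime_of_pel hj hao).symm)⟩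

/-- No group of type `(r, r)` acts on a member. -/
theorem rank_one {z a b : G} (hz : Pr z r) (hzx : z ∈ cent x) (ha : a ∈ cent x)
    (han : a ∈ normalizer (cent z : Set G)) (hb : b ∈ cent x) (hbn : b ∈ normalizer (cent z : Set G))
    (har : a ^ r ∈ cent z) (hbr : b ^ r ∈ cent z) (hab : a * b * a⁻¹ * b⁻¹ ∈ cent z) :
    b ∈ cent z ∨ ∃ i < r, a * b ^ i ∈ cent z := by
  by_contra hcon
  push Not at hcon
  haveI := Fact.mk T.two.q_prime
  set V := part (cent z) q with hV
  have hVc : ∀ u ∈ V, ∀ v ∈ V, Commute u v := fun u hu v hv =>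
    T.abel hz u (part_le _ q hu) v (part_le _ q hv)
  letI : CommGroup V := { (inferInstance : Group V) with mul_comm := fun u v => Subtype.ext (hVc u u.2 v v.2) }
  have hNV := CfsgLib.Perm.ThreeSizes.Thick.normalizer_le_part (T.abel hz) q
  let φ := V.normalizerMonoidHom
  have hφ : ∀ (d : normalizer (V : Set G)) (v : V), ((φ d v : V) : G) = d * v * (d : G)⁻¹ := fun _ _ => rfl
  have hker : ∀ d : normalizer (V : Set G), (d : G) ∈ cent z → φ d = 1 := fun d hd => by
    ext v
    rw [hφ, (T.abel hz d hd v (part_le _ q v.2)).eq, mul_inv_cancel_right]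
    rfl
  let a' : normalizer (V : Set G) := ⟨a, hNV han⟩
  let b' : normalizer (V : Set G) := ⟨b, hNV hbn⟩
  have hcomm : Commute (φ a') (φ b') := by
    have h1 := hker (a' * b' * a'⁻¹ * b'⁻¹) hab
    rw [map_mul, map_mul, map_mul, map_inv, map_inv, mul_inv_eq_one, mul_inv_eq_iff_eq_mul] at h1
    exact h1
  have hfix : ∀ d : normalizer (V : Set G), (d : G) ∈ cent x → (d : G) ∉ cent z → ∀ v : V, φ d v = v →
      v ∈ (center G).subgroupOf V := by
    intro d hdx hdz v hv
    rw [mem_subgroupOf]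
    by_contra hvc
    refine hdz ?_
    rw [← T.q_inf hz hzx (part_le _ q v.2)
      (CfsgLib.Perm.ThreeSizes.Thick.pr_of_part (T.abel hz) T.two.q_prime v.2 hvc)]
    exact ⟨hdx, mem_cent.2 (mul_inv_eq_iff_eq_mul.1 ((hφ d v).symm.trans (congrArg Subtype.val hv)))⟩
  obtain ⟨s, hs, hsq⟩ := T.two.exists_q (Or.inr (T.nm hz))
  have hsV : s ∈ V := hsq.mem_part (T.abel hz) hs
  have h1 := pow_mem_of_fixed T.hr (φ a') (φ b') ((center G).subgroupOf V)
    (by rw [← map_pow]; exact hker _ (by rw [SubmonoidClass.coe_pow]; exact har))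
    (by rw [← map_pow]; exact hker _ (by rw [SubmonoidClass.coe_pow]; exact hbr)) hcomm
    (fun c hc k => by
      ext
      rw [← map_pow, hφ, mem_center_iff.1 (mem_subgroupOf.1 hc) _, mul_inv_cancel_right])
    (fun v hv => hfix b' hb hcon.1 v hv)
    (fun i hi v hv => hfix (a' * b' ^ i) (mul_mem ha ((cent x).pow_mem hb i))
      (by rw [Subgroup.coe_mul, SubmonoidClass.coe_pow]; exact hcon.2 i hi) v
      (by rw [map_mul, map_pow]; exact hv)) ⟨s, hsV⟩
  obtain ⟨j, hj⟩ := pel_of_pr hsq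
  refine hsq.2.1 (CfsgLib.InvChar.ConjRank.mem_of_pow_coprime _
    (((Nat.coprime_primes T.hr T.two.q_prime).2 T.rq).pow_right j) ?_ (by rw [hj]; exact one_mem _))
  exact mem_subgroupOf.1 h1

/-- An `r`-element outside a member with `r`-th power inside has central `r`-th power. -/
theorem pow_center {z g : G} (hz : Pr z r) (hg : ∃ i, g ^ r ^ i = 1) (hgz : g ∉ cent z)
    (hgr : g ^ r ∈ cent z) : g ^ r ∈ center G := by
  by_contra hc
  obtain ⟨i, hi⟩ := hg
  haveI := Fact.mk T.hr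
  have hPr : Pr (g ^ r) r := pr_of_pel T.hr (i := i) (by rw [← pow_mul, mul_comm, pow_mul, hi, one_pow]) hc
  exact hgz ((T.eq_member hz hPr hgr).ge (mem_cent.2 ((Commute.refl g).pow_right r)))

theorem part_le_x {z : G} (hz : Pr z r) (hzx : z ∈ cent x) (l : ℕ) : part (cent z) l ≤ cent x :=
  (part_le _ l).trans (T.mem_x hz hzx)

/-- For odd `r` no `2`-element normalises a member from outside. -/
theorem noinv (hr2 : r ≠ 2) {z u : G} (hz : Pr z r) (hzx : z ∈ cent x) (hu : u ∈ cent x)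
    (hun : u ∈ normalizer (cent z : Set G)) (hu2 : ∃ i, orderOf u = 2 ^ i) : u ∈ cent z := by
  by_contra huz
  obtain ⟨j, hj, hjj⟩ := CfsgLib.Perm.ThreeSizes.Thick.exists_square huz hu2
  obtain ⟨i0, hi0⟩ := hu2
  set v := u ^ 2 ^ j with hv
  have hvx : v ∈ cent x := (cent x).pow_mem hu _
  have hvn : v ∈ normalizer (cent z : Set G) := pow_mem hun _
  have hv2 : (orderOf v).Coprime r := Nat.Coprime.coprime_dvd_left (orderOf_pow_dvd (2 ^ j))
    (hi0.symm ▸ ((Nat.coprime_primes Nat.prime_two T.hr).2 (Ne.symm hr2)).pow_left i0)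
  haveI := Fact.mk T.hr
  -- `v` inverts the `q`-part
  have hinv : ∀ s ∈ cent z, Pr s q → InvAt v s := by
    intro s hs hsq
    have hs' : v * s * v⁻¹ ∈ cent z :=
      (CfsgLib.Perm.ThreeSizes.Thick.conj_mem_normalizer hvn hs).1
    have hss : Commute s (v * s * v⁻¹) := T.abel hz s hs _ hs'
    refine CfsgLib.Perm.ThreeSizes.Thick.invAt_of_mem hss ?_
    by_contra hc
    obtain ⟨k, hk⟩ := pel_of_pr hsq
    have hPr : Pr (s * (v * s * v⁻¹)) q := pr_of_pel T.two.q_prime (i := k) (by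
      rw [hss.mul_pow, conj_pow, hk, mul_one, mul_inv_cancel, one_mul]) hc
    refine hj ?_
    rw [← T.q_inf hz hzx (mul_mem hs hs') hPr]
    exact ⟨hvx, mem_cent.2 (CfsgLib.Perm.ThreeSizes.Thick.commute_mul_image (T.abel hz _ hjj s hs) hss)⟩
  -- an `r`-element normalising the member from outside
  obtain ⟨g, hgx, hgn, hgX, hgo⟩ := CfsgLib.Perm.ThreeSizes.Thick.exists_normalizing
    (part_isPGroup (T.abel hz) r) (T.part_le_x hz hzx r) (by
      rw [CfsgLib.Perm.ThreeSizes.Thick.factorization_part (T.abel hz) r]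
      exact T.fac_full hz)
  have hgr : ∃ i, g ^ r ^ i = 1 := (CfsgLib.Perm.ThreeSizes.Thick.order_pow_iff T.hr).2 hgo
  have hzX : z ∈ part (cent z) r := hz.mem_part (T.abel hz) (self_mem_cent z)
  have hgN : g ∈ normalizer (cent z : Set G) :=
    T.mem_normalizer hz (part_le _ r (CfsgLib.Perm.ThreeSizes.Thick.conj_mem_normalizer hgn hzX).1)
  have hgz : g ∉ cent z := fun h => hgX ((mem_part (T.abel hz)).2 ⟨h, hgr⟩)
  obtain ⟨s, hs, hsq⟩ := T.two.exists_q (Or.inr (T.nm hz))
  have hsg : g⁻¹ * s * g ∈ cent z := (CfsgLib.Perm.ThreeSizes.Thick.conj_mem_normalizer hgN hs).2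
  have hcm : g * v * g⁻¹ * v⁻¹ ∈ cmod s := CfsgLib.Perm.ThreeSizes.Thick.cmod_comm (hinv s hs hsq)
    (hinv _ hsg (by simpa using hsq.conj g⁻¹))
  have hc : g * v * g⁻¹ * v⁻¹ ∈ cent z := T.mem_of_cmod hz hzx hs hsq
    (mul_mem (mul_mem (mul_mem hgx hvx) (inv_mem hgx)) (inv_mem hvx))
    (mul_mem (mul_mem (mul_mem hgN hvn) (inv_mem hgN)) (inv_mem hvn)) hcm
  have hfree : ∀ d : G, d ∉ cent z → ∀ w ∈ part (cent z) r, Commute d w → w ∈ center G := by
    intro d hd w hw hdw
    by_contra hwc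
    exact hd ((T.eq_member hz (CfsgLib.Perm.ThreeSizes.Thick.pr_of_part (T.abel hz) T.hr hw hwc)
      (part_le _ r hw)).ge (mem_cent.2 hdw))
  refine CfsgLib.Perm.ThreeSizes.Thick.key (part_isPGroup (T.abel hz) r) (fun h => hz.2.1 (h hzX))
    hgn hgo (CfsgLib.Perm.ThreeSizes.Thick.normalizer_le_part (T.abel hz) r hvn) hv2
    (fun w hw => ?_) (hfree g hgz) (hfree v hj)
  refine T.abel hz _ ?_ w (part_le _ r hw)
  have h1 := inv_mem hc
  rwa [show (g * v * g⁻¹ * v⁻¹)⁻¹ = v * g * v⁻¹ * g⁻¹ by group] at h1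

end Third

end CfsgLib.Perm.FourSizes
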