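import Cfsg.Agent.Lib.Perm.FourSizes.Cross

/-!
# A third odd prime
-/

set_option autoImplicit false
set_option linter.unusedSectionVars false

namespace CfsgLib.Perm.FourSizes

open Subgroup
open CfsgLib.InvChar.ConjRank (cent mem_cent self_mem_cent mem_cent_comm cent_le_pow)
open CfsgLib.Perm.ThreeSizes.Thick (Pr cent_inf_center exists_pr cmod mem_cmod mem_cmod_iff commute_of_cmod
  InvAt invAt_iff part mem_part part_le part_isPGroup pi_eq_one)

universe u
variable {G : Type u} [Group G] [Finite G]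

local notation "π" => QuotientGroup.mk' (center G)

/-- An odd power of an inverting element inverts. -/
theorem invAt_pow {u x : G} (h : InvAt u x) : ∀ k : ℕ, InvAt (u ^ (2 * k + 1)) x
  | 0 => by simpa using h
  | k + 1 => by
    have h0 := invAt_pow h k
    unfold InvAt at h h0 ⊢
    rw [show 2 * (k + 1) + 1 = 2 + (2 * k + 1) by ring, pow_add, pow_two, map_mul, map_mul]
    calc π u * π u * π (u ^ (2 * k + 1)) * π x * (π u * π u * π (u ^ (2 * k + 1)))⁻¹
        = π u * (π u * (π (u ^ (2 * k + 1)) * π x * (π (u ^ (2 * k + 1)))⁻¹) * (π u)⁻¹) * (π u)⁻¹ := by group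
      _ = π u * (π u * (π x)⁻¹ * (π u)⁻¹) * (π u)⁻¹ := by rw [h0]
      _ = π u * (π u * π x * (π u)⁻¹)⁻¹ * (π u)⁻¹ := by group
      _ = π u * π x * (π u)⁻¹ := by conv_lhs => rw [h, inv_inv]
      _ = (π x)⁻¹ := h

/-- Elements equal modulo the centre have the same centraliser. -/
theorem cent_eq_of_pi {w w' : G} (h : π w = π w') : cent w = cent w' := by
  have hz : w⁻¹ * w' ∈ center G := QuotientGroup.eq.1 h
  have key : ∀ k : G, Commute k (w⁻¹ * w') := fun k => mem_center_iff.1 hz k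
  ext k
  rw [mem_cent, mem_cent]
  refine ⟨fun hk => ?_, fun hk => ?_⟩
  · have := hk.mul_right (key k)
    rwa [mul_inv_cancel_left] at this
  · have := hk.mul_right (key k).inv_right
    rwa [mul_inv_rev, inv_inv, mul_inv_cancel_left] at this

namespace Third

variable {n m p q r : ℕ} {x : G} (T : Third G n m p q r x)
include T

/-- Nothing in `cent x` inverts one of the `r`-elements. -/
theorem inv_false (hr2 : r ≠ 2) {h w : G} (hh : h ∈ cent x) (hw : Pr w r) (hwx : w ∈ cent x)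
    (hwr : w ^ r ∈ center G) (hinv : InvAt h w) : False := by
  haveI : Fact (Nat.Prime 2) := ⟨Nat.prime_two⟩
  have hn : h ∈ normalizer (cent w : Set G) := T.mem_normalizer hw (by
    have h1 := (cent w).mul_mem (cent_inf_center w (invAt_iff.1 hinv)) ((cent w).inv_mem (self_mem_cent w))
    rwa [mul_inv_cancel_right] at h1)
  obtain ⟨i, o, ho, hio⟩ := Nat.exists_eq_pow_mul_and_not_dvd (orderOf_pos h).ne' 2 (by norm_num)
  obtain ⟨k, hk⟩ : ∃ k, o = 2 * k + 1 := Nat.odd_iff.2 (by omega)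
  have h2 : ∃ e, orderOf (h ^ o) = 2 ^ e :=
    (CfsgLib.Perm.ThreeSizes.Thick.order_pow_iff Nat.prime_two).1
      ⟨i, by rw [← pow_mul, mul_comm, ← hio, pow_orderOf_eq_one]⟩
  have hmem := T.noinv hr2 hw hwx ((cent x).pow_mem hh o) (pow_mem hn o) h2
  have h3 := (hk ▸ invAt_pow hinv k : InvAt (h ^ o) w).eq_one_of_cmod
    (CfsgLib.Perm.ThreeSizes.Thick.mem_cmod_of_commute (mem_cent.1 hmem))
  exact hw.2.1 (CfsgLib.InvChar.ConjRank.mem_of_pow_coprime _
    ((Nat.coprime_primes T.hr Nat.prime_two).2 hr2) hwr (by rw [pow_two]; exact h3))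

/-- In a small member the `r`-elements form one line. -/
theorem small_line {b t : G} (hb : Pr b r) (hbr : b ^ r ∈ center G)
    (hs : (Nat.card (cent b)).factorization r ≤ (Nat.card (center G)).factorization r + 1)
    (ht : t ∈ part (cent b) r) : π t ∈ zpowers (π b) := by
  haveI := Fact.mk T.hr
  by_contra hcon
  have hbt : Commute (π b) (π t) := (mem_cent.1 (part_le _ r ht)).symm.map π
  obtain ⟨i, hi⟩ := pel_mul_of_mem (part_isPGroup (T.abel hb) r) ht
  have hn : zpowers (π t) ≤ normalizer (zpowers (π b) : Set (G ⧸ center G)) := by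
    refine le_trans (zpowers_le.2 (mem_centralizer_iff.2 fun u hu => ?_)) (centralizer_le_normalizer _)
    obtain ⟨j, rfl⟩ := mem_zpowers_iff.1 hu
    exact (hbt.zpow_left j).eq
  set S := zpowers (π b) ⊔ zpowers (π t) with hS
  have hSp : IsPGroup r S := (isPGroup_zpowers ⟨1, by rw [pow_one, ← map_pow]; exact pi_eq_one.2 hbr⟩)
    |>.to_sup_of_normal_left' (isPGroup_zpowers ⟨i, by rw [← map_pow, hi, map_one]⟩) hn
  obtain ⟨e, he⟩ := IsPGroup.iff_card.1 hSp
  have hlt : r < Nat.card S := by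
    refine lt_of_le_of_ne ?_ fun h => hcon ?_
    · exact le_trans (le_of_eq (by rw [Nat.card_zpowers, orderOf_pi hb hbr]))
        (card_le_of_le (le_sup_left : zpowers (π b) ≤ S))
    · have h1 : zpowers (π b) = S := eq_of_le_of_card_ge le_sup_left
        (by rw [← h, Nat.card_zpowers, orderOf_pi hb hbr])
      exact h1.ge (mem_sup_right (mem_zpowers _))
  have he2 : 2 ≤ e := by
    by_contra h
    have h1 : r ^ e ≤ r ^ 1 := Nat.pow_le_pow_right T.hr.pos (by omega)
    rw [pow_one] at h1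
    rw [he] at hlt
    omega
  have hle : S.comap π ≤ cent b := by
    refine (comap_mono (show S ≤ (cent b).map π from sup_le (zpowers_le.2 (mem_map_of_mem π (self_mem_cent b)))
      (zpowers_le.2 (mem_map_of_mem π (part_le _ r ht))))).trans (le_of_eq ?_)
    rw [comap_map_eq, QuotientGroup.ker_mk', sup_eq_left]
    exact cent_inf_center b
  have h1 := CfsgLib.InvChar.ConjRank.factorization_card_le hle r
  rw [fac_comap (r := r), he, T.hr.factorization_pow, Finsupp.single_eq_same] at h1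
  omega

/-- A member which is not small has an element moving the other line. -/
theorem big {b g : G} (C : Cross r x b g)
    (hs : (Nat.card (center G)).factorization r + 1 < (Nat.card (cent b)).factorization r) :
    ∃ t ∈ part (cent b) r, π t * π g * (π t)⁻¹ = π b * π g := by
  haveI := Fact.mk T.hr
  have hab := T.abel C.hb
  have hgn := T.mem_normalizer_cmod C.hb C.comm
  have hgX := CfsgLib.Perm.ThreeSizes.Thick.normalizer_le_part hab r hgn
  have hgel := pel_of_pr C.hg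
  set X := part (cent b) r with hX
  have hXc : ∀ u ∈ X, ∀ v ∈ X, Commute u v := fun u hu v hv => hab u (part_le _ r hu) v (part_le _ r hv)
  have hcX : ∀ t ∈ X, t * g * t⁻¹ * g⁻¹ ∈ X := fun t ht => by
    rw [show t * g * t⁻¹ * g⁻¹ = t * (g * t⁻¹ * g⁻¹) by group]
    exact mul_mem ht ((mem_normalizer_iff.1 hgX _).1 (inv_mem ht))
  let δ : X →* G := MonoidHom.mk' (fun t => (t : G) * g * (t : G)⁻¹ * g⁻¹) fun s t => by
    show ((s * t : X) : G) * g * ((s * t : X) : G)⁻¹ * g⁻¹ =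
      (s : G) * g * (s : G)⁻¹ * g⁻¹ * ((t : G) * g * (t : G)⁻¹ * g⁻¹)
    rw [Subgroup.coe_mul, ((hXc _ (hcX s s.2) _ (hcX t t.2))).eq]
    calc (s : G) * t * g * ((s : G) * t)⁻¹ * g⁻¹
        = ((s : G) * ((t : G) * g * (t : G)⁻¹ * g⁻¹)) * g * (s : G)⁻¹ * g⁻¹ := by group
      _ = ((t : G) * g * (t : G)⁻¹ * g⁻¹) * s * g * (s : G)⁻¹ * g⁻¹ := by rw [(hXc _ s.2 _ (hcX t t.2)).eq]
      _ = (t : G) * g * (t : G)⁻¹ * g⁻¹ * ((s : G) * g * (s : G)⁻¹ * g⁻¹) := by group
  have hδX : δ.range ≤ X := by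
    rintro _ ⟨t, rfl⟩
    exact hcX t t.2
  set I := δ.range.map π with hI
  have hne : I ≠ ⊥ := by
    intro h
    have hall : ∀ t ∈ X, π t ∈ zpowers (π b) := by
      intro t ht
      have h1 : π (t * g * t⁻¹ * g⁻¹) = 1 := by
        rw [← mem_bot, ← h]
        exact mem_map_of_mem π ⟨⟨t, ht⟩, rfl⟩
      have hcm : g ∈ cmod t := mem_cmod.2 (by
        rw [map_mul, map_mul, map_mul, map_inv, map_inv, mul_inv_eq_one, mul_inv_eq_iff_eq_mul] at h1
        exact h1.symm)
      have h2 : (t * g) ^ r ∈ cent b := by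
        have h3 : π ((t * g) ^ r) = π (t ^ r * g ^ r) := by
          rw [map_pow, map_mul, map_mul, map_pow, map_pow]
          exact (mem_cmod.1 hcm).symm.mul_pow r
        have h4 : t ^ r * g ^ r ∈ cent b :=
          mul_mem (pow_mem (part_le _ r ht) r) (cent_inf_center b C.gr)
        have h5 := (cent b).mul_mem h4 (cent_inf_center b (QuotientGroup.eq.1 h3.symm))
        rwa [mul_inv_cancel_left] at h5
      have h3 := T.pow_center C.hb (T.r_mul C.hb ht hgel hgn)
        (fun h => C.ne (((cent b).mul_mem_cancel_left (part_le _ r ht)).1 h)) h2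
      have htr : t ^ r ∈ center G := by
        rw [← pi_eq_one, map_pow]
        have h4 := pi_eq_one.2 h3
        rw [map_pow, map_mul, (mem_cmod.1 hcm).symm.mul_pow, ← map_pow π g, pi_eq_one.2 C.gr, mul_one] at h4
        exact h4
      obtain ⟨i, hi⟩ := T.line C ht htr hcm
      rw [eq_inv_of_mul_eq_one_left hi]
      exact inv_mem (pow_mem (mem_zpowers _) i)
    have h1 := CfsgLib.InvChar.ConjRank.factorization_card_le (show X ≤ (zpowers (π b)).comap π from hall) r
    rw [fac_comap (r := r), Nat.card_zpowers, orderOf_pi C.hb C.br, T.hr.factorization_self, hX,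
      CfsgLib.Perm.ThreeSizes.Thick.factorization_part hab r] at h1
    omega
  have hIn : zpowers (π g) ≤ normalizer (I : Set (G ⧸ center G)) := by
    refine zpowers_le.2 (le_normalizer_map π ⟨g, mem_normalizer_fintype ?_, rfl⟩)
    rintro _ ⟨t, rfl⟩
    refine ⟨⟨g * t * g⁻¹, (mem_normalizer_iff.1 hgX _).1 t.2⟩, ?_⟩
    show g * (t : G) * g⁻¹ * g * (g * (t : G) * g⁻¹)⁻¹ * g⁻¹ = g * ((t : G) * g * (t : G)⁻¹ * g⁻¹) * g⁻¹
    group
  set L := I ⊔ zpowers (π g) with hL
  have hLp : IsPGroup r L := (((part_isPGroup hab r).to_le hδX).map π).to_sup_of_normal_left'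
    (isPGroup_zpowers ⟨1, by rw [pow_one, ← map_pow]; exact pi_eq_one.2 C.gr⟩) hIn
  have hN : (I.subgroupOf L).Normal := by
    rw [normal_subgroupOf_iff_le_normalizer le_sup_left]
    exact sup_le le_normalizer hIn
  have : Group.IsNilpotent L := hLp.isNilpotent
  obtain ⟨⟨y, hy⟩, ⟨hyI, hyc⟩, hy1⟩ := (bot_or_exists_ne_one _).resolve_left
    (CfsgLib.Solvable.normal_inf_center_ne_bot (I.subgroupOf L) fun e => hne (by
      have := congrArg (Subgroup.map L.subtype) e
      rwa [Subgroup.map_subgroupOf_eq_of_le le_sup_left, Subgroup.map_bot] at this))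
  obtain ⟨w, hw, rfl⟩ := mem_map.1 (mem_subgroupOf.1 hyI)
  obtain ⟨t, rfl⟩ := hw
  obtain ⟨e, he⟩ : ∃ e, orderOf (π (δ t)) = r ^ (e + 1) := by
    obtain ⟨j, hj⟩ := hLp.exists_orderOf_eq_pow ⟨π (δ t), hy⟩
    rw [orderOf_mk] at hj
    refine ⟨j - 1, ?_⟩
    rw [hj, Nat.sub_add_cancel (Nat.pos_of_ne_zero fun e => hy1 (Subtype.ext (orderOf_eq_one_iff.1
      (by rw [hj, e, pow_zero]))))]
  set u := δ (t ^ r ^ e) with hu
  have hπu : π u = π (δ t) ^ r ^ e := by rw [hu, map_pow, map_pow]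
  have huo : orderOf (π u) = r := by
    rw [hπu, orderOf_pow_of_dvd (pow_ne_zero _ T.hr.ne_zero) (he ▸ pow_dvd_pow r (by omega)), he,
      pow_succ, Nat.mul_div_cancel_left _ (pow_pos T.hr.pos e)]
  have hgu : g ∈ cmod u := mem_cmod.2 (by
    rw [hπu]
    exact (Commute.pow_right (show Commute (π g) (π (δ t)) from congrArg Subtype.val
      (Subgroup.mem_center_iff.1 hyc ⟨π g, mem_sup_right (mem_zpowers _)⟩)) _))
  have hur : u ^ r ∈ center G := pi_eq_one.1 (by rw [map_pow, ← huo, pow_orderOf_eq_one])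
  obtain ⟨i, hi⟩ := T.line C (hδX ⟨_, rfl⟩) hur hgu
  have hri : ¬ (r : ℤ) ∣ (i : ℤ) := fun h => by
    have h1 : π b ^ i = 1 := orderOf_dvd_iff_pow_eq_one.1
      (by rw [orderOf_pi C.hb C.br]; exact Int.natCast_dvd_natCast.1 h)
    rw [h1, mul_one] at hi
    exact T.hr.ne_one (by rw [← huo, hi, orderOf_one])
  obtain ⟨a, c, hac⟩ := ((Nat.prime_iff_prime_int.1 T.hr).coprime_iff_not_dvd.2 hri).symm
  refine ⟨(t ^ r ^ e : X) ^ (-a), ((t ^ r ^ e : X) ^ (-a)).2, ?_⟩
  have hui : π u = (π b ^ (i : ℤ))⁻¹ := by rw [zpow_natCast]; exact eq_inv_of_mul_eq_one_left hi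
  have hδ : π (δ ((t ^ r ^ e) ^ (-a))) = π b := by
    rw [map_zpow, map_zpow, hui, inv_zpow', ← zpow_mul, neg_neg]
    calc π b ^ ((i : ℤ) * a) = π b ^ (1 - c * (r : ℤ)) := by
          rw [show (i : ℤ) * a = 1 - c * (r : ℤ) from by linarith]
      _ = π b := by
          rw [sub_eq_add_neg, zpow_add, zpow_one, zpow_neg, mul_comm c, zpow_mul, zpow_natCast, ← map_pow,
            pi_eq_one.2 C.br, one_zpow, inv_one, mul_one]
  have h6 : π (((t ^ r ^ e : X) ^ (-a) : X) : G) * π g * (π (((t ^ r ^ e : X) ^ (-a) : X) : G))⁻¹ * (π g)⁻¹ = π b := by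
    rw [← map_inv, ← map_inv, ← map_mul, ← map_mul, ← map_mul]
    exact hδ
  exact (mul_inv_eq_iff_eq_mul).1 h6

theorem big_false (hr2 : r ≠ 2) {b g : G} (C : Cross r x b g)
    (hs : (Nat.card (center G)).factorization r + 1 < (Nat.card (cent b)).factorization r) : False := by
  obtain ⟨t1, ht1, e1⟩ := T.big C hs
  obtain ⟨t, ht, e2⟩ := T.big C.symm (T.fac_r C.hb C.hg ▸ hs)
  have hbg : Commute (π b) (π g) := (mem_cmod.1 C.comm).symm
  have h1 : Commute (π t1) (π b) := (mem_cent.1 (part_le _ r ht1)).map π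
  have h2 : Commute (π t) (π g) := (mem_cent.1 (part_le _ r ht)).map π
  set h := t1 * t⁻¹ * t1 * (t1 * t⁻¹ * t1) with hh
  have hhx : h ∈ cent x := by
    have a1 := T.part_le_x C.hb C.bx r ht1
    have a2 := inv_mem (T.part_le_x C.hg C.gx r ht)
    exact mul_mem (mul_mem (mul_mem a1 a2) a1) (mul_mem (mul_mem a1 a2) a1)
  refine T.inv_false hr2 hhx C.hb C.bx C.br ?_
  -- conjugation on the two lines
  let c1 := MulAut.conj (π t1)
  let c2 := MulAut.conj (π t)⁻¹
  have c1b : c1 (π b) = π b := by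
    show π t1 * π b * (π t1)⁻¹ = π b
    rw [h1.eq, mul_inv_cancel_right]
  have c1g : c1 (π g) = π b * π g := e1
  have c2g : c2 (π g) = π g := by
    show (π t)⁻¹ * π g * (π t)⁻¹⁻¹ = π g
    rw [inv_inv, mul_assoc, ← h2.eq, inv_mul_cancel_left]
  have c2b : c2 (π b) = (π g)⁻¹ * π b := by
    have h4 : π g * c2 (π b) = π b := by
      have : c2 (π g * π b) = π b := by
        rw [← e2]
        show (π t)⁻¹ * (π t * π b * (π t)⁻¹) * (π t)⁻¹⁻¹ = π b
        group
      rwa [map_mul, c2g] at this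
    rw [eq_inv_mul_iff_mul_eq]
    exact h4
  have wb : c1 (c2 (c1 (π b))) = (π g)⁻¹ := by
    rw [c1b, c2b, map_mul, map_inv, c1b, c1g, mul_inv_rev, inv_mul_cancel_right]
  have wg : c1 (c2 (c1 (π g))) = π b := by
    rw [c1g, map_mul, c2b, c2g, map_mul, map_mul, map_inv, c1b, c1g, mul_inv_rev, inv_mul_cancel_right]
    calc (π g)⁻¹ * (π b * π g) = (π g)⁻¹ * (π g * π b) := by rw [hbg.eq]
      _ = π b := inv_mul_cancel_left _ _
  have hconj : π h * π b * (π h)⁻¹ = c1 (c2 (c1 (c1 (c2 (c1 (π b)))))) := by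
    simp only [c1, c2, MulAut.conj_apply, inv_inv]
    rw [hh]
    simp only [map_mul, map_inv]
    group
  show π h * π b * (π h)⁻¹ = (π b)⁻¹
  rw [hconj, wb, map_inv, map_inv, map_inv, wg]

theorem small_false (hr2 : r ≠ 2) {R : Sylow r G} {b g : G} (hR : (R : Subgroup G) ≤ cent x)
    (hbR : b ∈ (R : Subgroup G)) (hgR : g ∈ (R : Subgroup G)) (C : Cross r x b g)
    (hcm : ∀ h ∈ (R : Subgroup G), h ∈ cmod b)
    (hgc : ∀ h ∈ (R : Subgroup G), h * g * h⁻¹ * g⁻¹ ∈ cent b)
    (hs : (Nat.card (cent b)).factorization r ≤ (Nat.card (center G)).factorization r + 1) : False := by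
  haveI := Fact.mk T.hr
  haveI := Fact.mk T.two.q_prime
  have hgn : zpowers (π g) ≤ normalizer (zpowers (π b) : Set (G ⧸ center G)) := by
    refine le_trans (zpowers_le.2 (mem_centralizer_iff.2 fun u hu => ?_)) (centralizer_le_normalizer _)
    obtain ⟨j, rfl⟩ := mem_zpowers_iff.1 hu
    exact ((mem_cmod.1 C.comm).zpow_right j).symm.eq
  -- every element of `R` lies in the two lines modulo the centre
  have hspan : ∀ h ∈ (R : Subgroup G), ∃ i j : ℤ, π h = π b ^ i * π g ^ j := by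
    intro h hh
    suffices hB : π h ∈ zpowers (π b) ⊔ zpowers (π g) by
      obtain ⟨u, hu, v, hv, huv⟩ := (CfsgLib.Coprime.mem_sup_of_le_normalizer hgn).1 hB
      obtain ⟨i, rfl⟩ := mem_zpowers_iff.1 hu
      obtain ⟨j, rfl⟩ := mem_zpowers_iff.1 hv
      exact ⟨i, j, huv.symm⟩
    induction hn : orderOf h using Nat.strong_induction_on generalizing h with
    | _ N ih =>
      subst hn
      obtain ⟨k, hk⟩ := pel_mul_of_mem R.isPGroup' hh
      by_cases hhb : h ∈ cent b
      · exact mem_sup_left (T.small_line C.hb C.br hs ((mem_part (T.abel C.hb)).2 ⟨hhb, k, hk⟩))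
      have h1 : h ≠ 1 := fun e => hhb (e ▸ one_mem _)
      obtain ⟨l, -, hl⟩ := (Nat.dvd_prime_pow T.hr).1 (orderOf_dvd_of_pow_eq_one hk)
      have hl0 : l ≠ 0 := fun e => h1 (orderOf_eq_one_iff.1 (by rw [hl, e, pow_zero]))
      have hlt : orderOf (h ^ r) < orderOf h := by
        rw [orderOf_pow_of_dvd T.hr.ne_zero (hl ▸ dvd_pow_self r hl0)]
        exact Nat.div_lt_self (orderOf_pos h) T.hr.one_lt
      have hrec := ih _ hlt (h ^ r) (pow_mem hh r) rfl
      have hhn := T.mem_normalizer_cmod C.hb (hcm h hh)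
      by_cases hhr : h ^ r ∈ cent b
      · rcases T.rank_one C.hb C.bx (hR hh) hhn C.gx (T.mem_normalizer_cmod C.hb C.comm) hhr
          (cent_inf_center b C.gr) (hgc h hh) with h2 | ⟨i, -, h2⟩
        · exact absurd h2 C.ne
        · have h3 := T.small_line C.hb C.br hs ((mem_part (T.abel C.hb)).2 ⟨h2,
            pel_mul_of_mem R.isPGroup' (mul_mem hh (pow_mem hgR i))⟩)
          rw [map_mul, map_pow] at h3
          exact ((zpowers (π b) ⊔ zpowers (π g)).mul_mem_cancel_right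
            (pow_mem (mem_sup_right (mem_zpowers _)) i)).1 (mem_sup_left h3)
      · have hwc : h ^ r ∉ center G := fun h2 => hhr (cent_inf_center b h2)
        have hwr : (h ^ r) ^ r ∈ center G := by
          obtain ⟨u, hu, v, hv, huv⟩ := (CfsgLib.Coprime.mem_sup_of_le_normalizer hgn).1 hrec
          obtain ⟨i, rfl⟩ := mem_zpowers_iff.1 hu
          obtain ⟨j, rfl⟩ := mem_zpowers_iff.1 hv
          have e : ∀ (w : G) (i : ℤ), w ^ r ∈ center G → (π w ^ i) ^ r = 1 := fun w i hw => by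
            rw [← zpow_natCast, ← zpow_mul, mul_comm, zpow_mul, zpow_natCast, ← map_pow, pi_eq_one.2 hw, one_zpow]
          rw [← pi_eq_one, map_pow, ← huv, (((mem_cmod.1 C.comm).symm.zpow_zpow i j)).mul_pow, e b i C.br,
            e g j C.gr, one_mul]
        obtain ⟨k', hk'⟩ := pel_mul_of_mem R.isPGroup' (pow_mem hh r)
        have hw : Pr (h ^ r) r := pr_of_pel T.hr hk' hwc
        have h3 := T.small_line hw hwr ((T.fac_r hw C.hb).le.trans hs)
          ((mem_part (T.abel hw)).2 ⟨mem_cent.2 ((Commute.refl h).pow_right r), k, hk⟩)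
        exact (zpowers_le.2 hrec) h3
  have hpow : ∀ h ∈ (R : Subgroup G), h ^ r ∈ center G := by
    intro h hh
    obtain ⟨i, j, e⟩ := hspan h hh
    have e' : ∀ (w : G) (i : ℤ), w ^ r ∈ center G → (π w ^ i) ^ r = 1 := fun w i hw => by
      rw [← zpow_natCast, ← zpow_mul, mul_comm, zpow_mul, zpow_natCast, ← map_pow, pi_eq_one.2 hw, one_zpow]
    rw [← pi_eq_one, map_pow, e, (((mem_cmod.1 C.comm).symm.zpow_zpow i j)).mul_pow, e' b i C.br, e' g j C.gr,
      one_mul]
  have hcomm : ∀ h ∈ (R : Subgroup G), ∀ w ∈ (R : Subgroup G), h ∈ cmod w := by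
    intro h hh w hw
    obtain ⟨i, j, e⟩ := hspan h hh
    obtain ⟨i', j', e'⟩ := hspan w hw
    have hbg : Commute (π b) (π g) := (mem_cmod.1 C.comm).symm
    rw [mem_cmod, e, e']
    exact (((Commute.refl _).zpow_zpow i i').mul_left (hbg.symm.zpow_zpow j i')).mul_right
      ((hbg.zpow_zpow i j').mul_left ((Commute.refl _).zpow_zpow j j'))
  have hPr : ∀ w ∈ (R : Subgroup G), w ∉ center G → Pr w r := fun w hw hwc => by
    obtain ⟨k, hk⟩ := pel_mul_of_mem R.isPGroup' hw
    exact pr_of_pel T.hr hk hwc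
  -- the members of the elements of `R`
  let Λ := {M : Subgroup G // ∃ w ∈ (R : Subgroup G), w ∉ center G ∧ M = cent w}
  have hbR' : ∀ i : ℕ, g * b ^ i ∈ (R : Subgroup G) ∧ g * b ^ i ∉ center G := fun i =>
    ⟨mul_mem hgR (pow_mem hbR i), fun h => C.ne (((cent b).mul_mem_cancel_right
      (pow_mem (self_mem_cent b) i)).1 (cent_inf_center b h))⟩
  let f : Option (Fin r) → Λ := fun o => o.elim ⟨cent b, b, hbR, C.hb.2.1, rfl⟩
    fun i => ⟨cent (g * b ^ (i : ℕ)), _, (hbR' i).1, (hbR' i).2, rfl⟩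
  have hne : ∀ i : ℕ, cent (g * b ^ i) ≠ cent b := fun i h => C.ne
    (((cent b).mul_mem_cancel_right (pow_mem (self_mem_cent b) i)).1 (h ▸ self_mem_cent _))
  have hf : Function.Bijective f := by
    refine ⟨fun o o' h => ?_, fun ⟨M, w, hw, hwc, hM⟩ => ?_⟩
    · have h' := congrArg Subtype.val h
      rcases o with _ | i <;> rcases o' with _ | j
      · rfl
      · exact absurd h'.symm (hne j)
      · exact absurd h' (hne i)
      · replace h' : cent (g * b ^ (i : ℕ)) = cent (g * b ^ (j : ℕ)) := h'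
        have h1 : (g * b ^ (i : ℕ))⁻¹ * (g * b ^ (j : ℕ)) ∈ cent (g * b ^ (i : ℕ)) :=
          mul_mem (inv_mem (self_mem_cent _)) (h' ▸ self_mem_cent _)
        have e : (g * b ^ (i : ℕ))⁻¹ * (g * b ^ (j : ℕ)) = b ^ ((j : ℤ) - i) := by
          rw [zpow_sub, zpow_natCast, zpow_natCast, ((Commute.refl b).pow_pow _ _).inv_right.eq]
          group
        rw [e] at h1
        have h2 : b ^ ((j : ℤ) - i) ∈ center G := by
          by_contra hc
          have hP := hPr _ ((R : Subgroup G).zpow_mem hbR _) hc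
          exact hne i ((T.eq_member (hPr _ (hbR' i).1 (hbR' i).2) hP h1).trans
            (T.eq_member C.hb hP ((cent b).zpow_mem (self_mem_cent b) _)).symm)
        have h3 : (r : ℤ) ∣ (j : ℤ) - i := by
          have h4 : π b ^ ((j : ℤ) - i) = 1 := by rw [← map_zpow]; exact pi_eq_one.2 h2
          have h5 := orderOf_dvd_iff_zpow_eq_one.2 h4
          rwa [orderOf_pi C.hb C.br] at h5
        have := Int.eq_zero_of_abs_lt_dvd h3 (by rw [abs_lt]; omega)
        exact congrArg some (Fin.ext (by omega))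
    · obtain ⟨i, j, e⟩ := hspan w hw
      by_cases hj : (r : ℤ) ∣ j
      · refine ⟨none, Subtype.ext ?_⟩
        show cent b = M
        have e1 : π g ^ j = 1 := orderOf_dvd_iff_zpow_eq_one.1 (by rw [orderOf_pi C.hg C.gr]; exact hj)
        rw [e1, mul_one, ← map_zpow] at e
        have hc : b ^ i ∉ center G := fun h => hwc (pi_eq_one.1 (e.trans (pi_eq_one.2 h)))
        rw [hM, cent_eq_of_pi e]
        exact T.eq_member C.hb (hPr _ ((R : Subgroup G).zpow_mem hbR i) hc)
          ((cent b).zpow_mem (self_mem_cent b) i)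
      · obtain ⟨a, c, hac⟩ := ((Nat.prime_iff_prime_int.1 T.hr).coprime_iff_not_dvd.2 hj).symm
        obtain ⟨k, hk⟩ : ∃ k : ℕ, π b ^ (i * a) = π b ^ k := by
          refine ⟨((i * a) % (r : ℤ)).toNat, ?_⟩
          rw [← zpow_natCast, Int.toNat_of_nonneg (Int.emod_nonneg _ (by exact_mod_cast T.hr.ne_zero))]
          conv_lhs => rw [← zpow_mod_orderOf, orderOf_pi C.hb C.br]
        refine ⟨some ⟨k % r, Nat.mod_lt _ T.hr.pos⟩, Subtype.ext ?_⟩
        show cent (g * b ^ (k % r)) = M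
        have e2 : π (w ^ a) = π (g * b ^ (k % r)) := by
          have hbg : Commute (π b) (π g) := (mem_cmod.1 C.comm).symm
          rw [map_zpow, e, (hbg.zpow_zpow i j).mul_zpow, ← zpow_mul, ← zpow_mul, hk, map_mul, map_pow,
            show j * a = 1 - c * (r : ℤ) by linarith, sub_eq_add_neg, zpow_add, zpow_one, zpow_neg,
            mul_comm c, zpow_mul, zpow_natCast, ← map_pow π g r, pi_eq_one.2 C.gr, one_zpow, inv_one, mul_one,
            ← pow_eq_pow_mod k (show π b ^ r = 1 by rw [← map_pow]; exact pi_eq_one.2 C.br)]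
          exact (hbg.pow_left k).eq
        have hc : w ^ a ∉ center G := fun h =>
          (hbR' (k % r)).2 (pi_eq_one.1 (e2.symm.trans (pi_eq_one.2 h)))
        rw [hM, ← cent_eq_of_pi e2]
        exact (T.eq_member (hPr w hw hwc) (hPr _ ((R : Subgroup G).zpow_mem hw a) hc)
          ((cent w).zpow_mem (self_mem_cent w) a)).symm
  -- the normaliser of `R` in `cent x` is transitive on the members
  set Hs := cent x ⊓ normalizer ((R : Subgroup G) : Set G) with hHs
  set S := normalizer (cent b : Set G) with hS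
  have htrans : ∀ w ∈ (R : Subgroup G), w ∉ center G → ∃ h ∈ Hs, cent (h * b * h⁻¹) = cent w := by
    intro w hw hwc
    have hwP := hPr w hw hwc
    have hwx := hR hw
    let V := part (cent b) q
    let V' := part (cent w) q
    have mkS : ∀ z : G, Pr z r → z ∈ cent x → ∃ P : Sylow q (cent x),
        (P : Subgroup (cent x)) = (part (cent z) q).subgroupOf (cent x) := by
      intro z hz hzx
      obtain ⟨e, he⟩ := IsPGroup.iff_card.1 (part_isPGroup (T.abel hz) q)
      have h1 := T.fac_q hz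
      rw [he, T.two.q_prime.factorization_pow, Finsupp.single_eq_same] at h1
      refine ⟨Sylow.ofCard _ ?_, rfl⟩
      show Nat.card ((part (cent z) q).subgroupOf (cent x)) = _
      rw [Nat.card_congr (subgroupOfEquivOfLe (T.part_le_x hz hzx q)).toEquiv, he, h1]
    obtain ⟨P, hP⟩ := mkS b C.hb C.bx
    obtain ⟨P', hP'⟩ := mkS w hwP hwx
    obtain ⟨d, hd⟩ := MulAction.exists_smul_eq (cent x) P' P
    obtain ⟨s, hs', hsq⟩ := T.two.exists_q (Or.inr (T.nm hwP))
    have hds : (d : G) * s * (d : G)⁻¹ ∈ cent b := by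
      have h1 : d * (⟨s, T.mem_x hwP hwx hs'⟩ : cent x) * d⁻¹ ∈ (P : Subgroup (cent x)) := by
        rw [← hd]
        exact ⟨_, hP'.ge (mem_subgroupOf.2 (hsq.mem_part (T.abel hwP) hs')), rfl⟩
      rw [hP] at h1
      exact part_le _ q h1
    have hdw : (d : G) * w * (d : G)⁻¹ ∈ cent b := by
      rw [← T.q_inf C.hb C.bx hds (hsq.conj d)]
      refine ⟨(cent x).mul_mem ((cent x).mul_mem d.2 hwx) ((cent x).inv_mem d.2), mem_cent.2 ?_⟩
      simpa using (mem_cent.1 hs').symm.map (MulAut.conj (d : G))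
    have heq := T.eq_member C.hb (hwP.conj d) hdw
    set N := cent x ⊓ S with hN
    have hRN : (R : Subgroup G) ≤ N := fun h hh => ⟨hR hh, T.mem_normalizer_cmod C.hb (hcm h hh)⟩
    have hR'N : (((d : G) • R : Sylow r G) : Subgroup G) ≤ N := by
      rintro _ ⟨h, hh, rfl⟩
      refine ⟨(cent x).mul_mem ((cent x).mul_mem d.2 (hR hh)) ((cent x).inv_mem d.2), ?_⟩
      rw [hS, heq]
      refine T.mem_normalizer_cmod (hwP.conj d) (mem_cmod.2 ?_)
      simpa using ((mem_cmod.1 (hcomm h hh w hw)).map (MulAut.conj (π (d : G))))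
    obtain ⟨e, he⟩ := MulAction.exists_smul_eq N (((d : G) • R).subtype hR'N) (R.subtype hRN)
    have hnorm : ((e : G) * d) ∈ normalizer ((R : Subgroup G) : Set G) := mem_normalizer_fintype fun h hh => by
      have h1 : (⟨(d : G) * h * (d : G)⁻¹, hR'N ⟨h, hh, rfl⟩⟩ : N) ∈ ((((d : G) • R).subtype hR'N : Sylow r N) : Subgroup N) :=
        ⟨h, hh, rfl⟩
      have h2 : e * (⟨(d : G) * h * (d : G)⁻¹, hR'N ⟨h, hh, rfl⟩⟩ : N) * e⁻¹ ∈ ((R.subtype hRN : Sylow r N) : Subgroup N) := by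
        rw [← he]; exact ⟨_, h1, rfl⟩
      have h3 : (e : G) * ((d : G) * h * (d : G)⁻¹) * (e : G)⁻¹ ∈ (R : Subgroup G) := h2
      rw [SetLike.mem_coe]
      convert h3 using 1
      group
    refine ⟨((e : G) * d)⁻¹, ⟨(cent x).inv_mem ((cent x).mul_mem e.2.1 d.2), (normalizer _).inv_mem hnorm⟩, ?_⟩
    have h4 : (e : G) * ((d : G) * w * (d : G)⁻¹) * (e : G)⁻¹ ∈ cent b :=
      (CfsgLib.Perm.ThreeSizes.Thick.conj_mem_normalizer e.2.2 hdw).1
    have h5 : ((e : G) * d)⁻¹ * b * (((e : G) * d)⁻¹)⁻¹ ∈ cent w := by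
      rw [mem_cent]
      have h6 := (mem_cent.1 (mem_cent_comm.1 h4)).map (MulAut.conj ((e : G) * d)⁻¹)
      simp only [MulAut.conj_apply] at h6
      convert h6 using 1
      group
    exact (T.eq_member hwP (C.hb.conj _) h5).symm
  -- so the stabiliser of a member has even index
  have hHS : ∀ h ∈ Hs, ∀ h' ∈ Hs, cent (h * b * h⁻¹) = cent (h' * b * h'⁻¹) ↔ h⁻¹ * h' ∈ S := by
    intro h hh h' hh'
    constructor
    · intro e
      refine T.mem_normalizer C.hb (mem_cent.2 ?_)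
      have h1 : Commute (h' * b * h'⁻¹) (h * b * h⁻¹) := mem_cent.1 (e.symm ▸ self_mem_cent (h' * b * h'⁻¹))
      have h2 := h1.map (MulAut.conj h⁻¹)
      simp only [MulAut.conj_apply] at h2
      convert h2 using 1 <;> group
    · intro e
      have h1 := (CfsgLib.Perm.ThreeSizes.Thick.conj_mem_normalizer e (self_mem_cent b)).1
      have h2 : h' * b * h'⁻¹ ∈ cent (h * b * h⁻¹) := by
        have h3 := (mem_cent.1 h1).map (MulAut.conj h)
        simp only [MulAut.conj_apply] at h3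
        rw [mem_cent]
        convert h3 using 1
        group
      exact T.eq_member (C.hb.conj h) (C.hb.conj h') h2
  have hidx : S.relIndex Hs = r + 1 := by
    have hcard : Nat.card Λ = r + 1 := by rw [← Nat.card_eq_of_bijective f hf]; simp
    rw [← hcard, relIndex, index_eq_card]
    let φ : Hs ⧸ S.subgroupOf Hs → Λ := Quotient.lift
      (fun h : Hs => (⟨cent ((h : G) * b * (h : G)⁻¹), _, (mem_normalizer_iff.1 h.2.2 b).1 hbR,
        (C.hb.conj h).2.1, rfl⟩ : Λ)) fun h h' e => Subtype.ext ((hHS h h.2 h' h'.2).2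
          (mem_subgroupOf.1 (QuotientGroup.leftRel_apply.1 e)))
    refine Nat.card_eq_of_bijective φ ⟨?_, ?_⟩
    · rintro ⟨h⟩ ⟨h'⟩ e
      exact Quotient.sound (QuotientGroup.leftRel_apply.2
        (mem_subgroupOf.2 ((hHS h h.2 h' h'.2).1 (congrArg Subtype.val e))))
    · rintro ⟨M, w, hw, hwc, rfl⟩
      obtain ⟨h, hh, e⟩ := htrans w hw hwc
      exact ⟨QuotientGroup.mk ⟨h, hh⟩, Subtype.ext e⟩
  haveI : Fact (Nat.Prime 2) := ⟨Nat.prime_two⟩
  obtain ⟨Q⟩ := (inferInstance : Nonempty (Sylow 2 Hs))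
  obtain ⟨u, hu, huS⟩ : ∃ u ∈ (Q : Subgroup Hs), (u : G) ∉ S := by
    by_contra hcon
    push Not at hcon
    refine Q.not_dvd_index (Dvd.dvd.trans ?_ (index_dvd_of_le (show (Q : Subgroup Hs) ≤ S.subgroupOf Hs from
      fun u hu => hcon u hu)))
    show 2 ∣ S.relIndex Hs
    rw [hidx]
    have := Nat.Prime.eq_two_or_odd T.hr
    omega
  obtain ⟨k, hk⟩ := Q.isPGroup'.exists_orderOf_eq_pow ⟨u, hu⟩
  rw [orderOf_mk, ← orderOf_coe] at hk
  obtain ⟨j, hj, hjj⟩ := CfsgLib.Perm.ThreeSizes.Thick.exists_square huS ⟨k, hk⟩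
  set v := (u : G) ^ 2 ^ j with hv
  have hvH : v ∈ Hs := Hs.pow_mem u.2 _
  obtain ⟨e, -, he⟩ := (Nat.dvd_prime_pow Nat.prime_two).1
    (hk ▸ orderOf_pow_dvd (x := (u : G)) (2 ^ j) : orderOf v ∣ 2 ^ k)
  have hsq : v * v ∈ cent b := by
    refine T.noinv hr2 C.hb C.bx (mul_mem hvH.1 hvH.1) hjj ?_
    obtain ⟨e', -, he'⟩ := (Nat.dvd_prime_pow Nat.prime_two).1
      (he ▸ orderOf_pow_dvd (x := v) 2 : orderOf (v ^ 2) ∣ 2 ^ e)
    exact ⟨e', by rw [← pow_two]; exact he'⟩
  have hb'R : v * b * v⁻¹ ∈ (R : Subgroup G) := (mem_normalizer_iff.1 hvH.2 b).1 hbR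
  set w := b * (v * b * v⁻¹)⁻¹ with hw
  have hwR : w ∈ (R : Subgroup G) := mul_mem hbR (inv_mem hb'R)
  have hwc : w ∉ center G := fun h => hj (T.mem_normalizer C.hb (by
    have h1 := (cent b).mul_mem ((cent b).inv_mem (cent_inf_center b h)) (self_mem_cent b)
    rwa [hw, mul_inv_rev, inv_inv, inv_mul_cancel_right] at h1))
  refine T.inv_false hr2 hvH.1 (hPr w hwR hwc) (hR hwR) (hpow w hwR) ?_
  have h1 : v * w * v⁻¹ = v * b * v⁻¹ * b⁻¹ := by
    calc v * w * v⁻¹ = v * b * v⁻¹ * (v * v * b * (v * v)⁻¹)⁻¹ := by rw [hw]; group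
      _ = v * b * v⁻¹ * b⁻¹ := by rw [(mem_cent.1 hsq).eq, mul_inv_cancel_right]
  show π v * π w * (π v)⁻¹ = (π w)⁻¹
  rw [← map_inv, ← map_inv, ← map_mul, ← map_mul, h1, hw]
  congr 1
  group

/-- There is no third prime. -/
theorem false {z : G} (hz : Pr z r) : False := by
  obtain ⟨R, b, g, hR, hbR, hgR, C, hcm, hgc⟩ := T.exists_cross hz
  by_cases hr2 : r = 2
  · exact T.two_false hr2 C
  by_cases hs : (Nat.card (cent b)).factorization r ≤ (Nat.card (center G)).factorization r + 1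
  · exact T.small_false hr2 hR hbR hgR C hcm hgc hs
  · exact T.big_false hr2 C (not_le.1 hs)

end Third

/-- Only the primes `p` and `q` have noncentral primary elements. -/
theorem Two.only_two {n m p q : ℕ} (T : Two G n m p q) {z : G} {r : ℕ} (hz : Pr z r) : r = p ∨ r = q := by
  by_contra hcon
  push Not at hcon
  rcases (Nat.Prime.dvd_mul hz.1).1 (T.hyp.dvd_nm hz) with h | h
  · obtain ⟨y, hy, hym⟩ := T.exm
    exact Third.false ⟨T.symm, hy, hym, hz.1, hcon.2, hcon.1, h⟩ hz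
  · obtain ⟨x, hx, hxn⟩ := T.exn
    exact Third.false ⟨T, hx, hxn, hz.1, hcon.1, hcon.2, h⟩ hz

end CfsgLib.Perm.FourSizes
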