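import Cfsg.Agent.Lib.Perm.FourSizes.PQTools
import Cfsg.Agent.Lib.Perm.FourSizes.Odd

/-!
# Two primes: the final count
-/

set_option autoImplicit false
set_option linter.unusedSectionVars false

namespace CfsgLib.Perm.FourSizes

open Subgroup
open CfsgLib.InvChar.ConjRank (cent mem_cent self_mem_cent mem_cent_comm cent_le_pow)
open CfsgLib.Perm.ThreeSizes.Thick (Pr cent_mul_eq cent_inf_center cent_eq_top exists_pr commute_of_cmod mem_cmod)

universe u
variable {G : Type u} [Group G] [Finite G]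

theorem normalizes_of_normal (N : Subgroup G) [N.Normal] (H : Subgroup G) : H ≤ normalizer (N : Set G) :=
  (normalizer_eq_top N).ge.trans' le_top

/-- Two subgroups of a Sylow subgroup meeting in the centre. -/
theorem disjoint_fac {q : ℕ} [Fact q.Prime] {A B : Subgroup G} (hA : IsPGroup q A) (hB : IsPGroup q B)
    (hn : A ≤ normalizer (B : Set G)) (hi : A ⊓ B ≤ center G) :
    (Nat.card A).factorization q + (Nat.card B).factorization q ≤
      (Nat.card G).factorization q + (Nat.card (center G)).factorization q := by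
  have hq : q.Prime := Fact.out
  obtain ⟨a, ha⟩ := IsPGroup.iff_card.1 hA
  obtain ⟨b, hb⟩ := IsPGroup.iff_card.1 hB
  obtain ⟨c, hc⟩ := IsPGroup.iff_card.1 (sup_comm B A ▸ hB.to_sup_of_normal_left' hA hn :
    IsPGroup q (A ⊔ B : Subgroup G))
  obtain ⟨d, hd⟩ := IsPGroup.iff_card.1 (hA.to_le inf_le_left : IsPGroup q (A ⊓ B : Subgroup G))
  have h1 : c ≤ (Nat.card G).factorization q :=
    (hq.pow_dvd_iff_le_factorization Nat.card_pos.ne').1 (hc ▸ card_subgroup_dvd_card _)
  have h2 : d ≤ (Nat.card (center G)).factorization q :=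
    (hq.pow_dvd_iff_le_factorization Nat.card_pos.ne').1 (hd ▸ card_dvd_of_le hi)
  have h3 : Nat.card A * Nat.card B ≤ Nat.card (A ⊔ B : Subgroup G) * Nat.card (A ⊓ B : Subgroup G) := by
    rw [← CfsgLib.Solvable.card_mul_set_mul_card_inf]
    refine Nat.mul_le_mul_right _ ?_
    rw [Nat.card_coe_set_eq, ← SetLike.coe_sort_coe, Nat.card_coe_set_eq]
    refine Set.ncard_le_ncard ?_
    rintro _ ⟨u, hu, v, hv, rfl⟩
    exact mul_mem (mem_sup_left hu) (mem_sup_right hv)
  rw [ha, hb, hc, hd, ← pow_add, ← pow_add] at h3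
  have h4 := (Nat.pow_le_pow_iff_right hq.one_lt).1 h3
  rw [ha, hb, hq.factorization_pow, Finsupp.single_eq_same, hq.factorization_pow, Finsupp.single_eq_same]
  omega

/-- An orbit of a group of coprime order inside a normal subgroup modulo the centre. -/
theorem orbit_lt {N B : Subgroup G} [N.Normal] (hco : (Nat.card B).Coprime (Nat.card N)) {t : G} (ht : t ∈ N)
    (htc : t ∉ center G) : (cent t).relIndex B < (center G).relIndex N := by
  let f : B ⧸ (cent t).subgroupOf B → {z : N ⧸ (center G).subgroupOf N // z ≠ 1} := Quotient.lift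
    (fun d : B => ⟨QuotientGroup.mk ⟨(d : G) * t * (d : G)⁻¹, (inferInstance : N.Normal).conj_mem t ht d⟩,
      fun h => htc (by
        have h1 := (inferInstance : (center G).Normal).conj_mem _ (mem_subgroupOf.1
          ((QuotientGroup.eq_one_iff _).1 h)) (d : G)⁻¹
        simpa [mul_assoc] using h1)⟩) fun d d' e => Subtype.ext (congrArg QuotientGroup.mk (Subtype.ext (by
      show (d : G) * t * (d : G)⁻¹ = (d' : G) * t * (d' : G)⁻¹
      have h1 : ((d⁻¹ * d' : B) : G) ∈ cent t := mem_subgroupOf.1 (QuotientGroup.leftRel_apply.1 e)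
      calc (d : G) * t * (d : G)⁻¹ = d * (((d⁻¹ * d' : B) : G) * t * ((d⁻¹ * d' : B) : G)⁻¹) * (d : G)⁻¹ := by
            rw [(mem_cent.1 h1).eq, mul_inv_cancel_right]
        _ = (d' : G) * t * (d' : G)⁻¹ := by simp [mul_assoc])))
  have hf : Function.Injective f := by
    rintro ⟨d⟩ ⟨d'⟩ e
    refine Quotient.sound (QuotientGroup.leftRel_apply.2 (mem_subgroupOf.2 (mem_cent.2
      (commute_of_cmod (mem_cmod.2 ?_) (Nat.Coprime.coprime_dvd_left (B.orderOf_dvd_natCard (d⁻¹ * d').2)
        (hco.coprime_dvd_right (N.orderOf_dvd_natCard ht)))))))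
    have h1 : ((d : G) * t * (d : G)⁻¹)⁻¹ * ((d' : G) * t * (d' : G)⁻¹) ∈ center G :=
      mem_subgroupOf.1 (QuotientGroup.eq.1 (congrArg Subtype.val e))
    have h2 : QuotientGroup.mk' (center G) ((d : G) * t * (d : G)⁻¹) =
        QuotientGroup.mk' (center G) ((d' : G) * t * (d' : G)⁻¹) := QuotientGroup.eq.2 h1
    simp only [map_mul, map_inv] at h2
    show QuotientGroup.mk' (center G) ((d⁻¹ * d' : B) : G) * QuotientGroup.mk' (center G) t = _
    rw [Subgroup.coe_mul, Subgroup.coe_inv, map_mul, map_inv]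
    generalize QuotientGroup.mk' (center G) (d : G) = a at h2 ⊢
    generalize QuotientGroup.mk' (center G) (d' : G) = b at h2 ⊢
    generalize QuotientGroup.mk' (center G) t = w at h2 ⊢
    calc a⁻¹ * b * w = a⁻¹ * (b * w * b⁻¹) * b := by group
      _ = a⁻¹ * (a * w * a⁻¹) * b := by rw [h2]
      _ = w * (a⁻¹ * b) := by group
  have h1 : Nat.card {z : N ⧸ (center G).subgroupOf N // z ≠ 1} < Nat.card (N ⧸ (center G).subgroupOf N) :=
    Finite.card_subtype_lt (x := 1) (fun h => h rfl)
  calc (cent t).relIndex B ≤ _ := Nat.card_le_card_of_injective f hf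
    _ < _ := h1

namespace PQ

variable {n m p q : ℕ} (T : PQ G n m p q)
include T

theorem index_p {g : G} (hg : Pr g p) : (cent g).index = n ∨ (cent g).index = n * m := by
  rcases T.two.hyp.cases hg.2.1 with e | e | e
  · exact Or.inl e
  · exact absurd (T.two.um g p hg e) T.two.ne
  · exact Or.inr e

/-- The centre's `p`-part lies in `O_p`. -/
theorem fac_inf_center :
    (Nat.card (center G ⊓ Cfsg.pCore p G : Subgroup G)).factorization p =
      (Nat.card (center G)).factorization p := by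
  haveI := Fact.mk T.two.p_prime
  refine le_antisymm (CfsgLib.InvChar.ConjRank.factorization_card_le inf_le_left p) ?_
  obtain ⟨S⟩ := (inferInstance : Nonempty (Sylow p (center G)))
  have hle : (S : Subgroup (center G)).map (center G).subtype ≤ center G ⊓ Cfsg.pCore p G := by
    rintro _ ⟨w, hw, rfl⟩
    obtain ⟨i, hi⟩ := S.isPGroup' ⟨w, hw⟩
    exact ⟨w.2, T.center_le_core ⟨i, congrArg (fun z : (S : Subgroup (center G)) => ((z : center G) : G)) hi⟩ w.2⟩
  refine le_trans (le_of_eq ?_) (CfsgLib.InvChar.ConjRank.factorization_card_le hle p)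
  rw [card_map_of_injective (subtype_injective _), S.card_eq_multiplicity, T.two.p_prime.factorization_pow,
    Finsupp.single_eq_same]

/-- The count: the orbit of a Sylow `q`-subgroup on `O_p` modulo the centre. -/
theorem orbit_core {t : G} (ht : t ∈ Cfsg.pCore p G) (htc : t ∉ center G) (Q : Sylow q G) :
    ∃ e j, (Nat.card G).factorization q ≤ e + (Nat.card ((Q : Subgroup G) ⊓ cent t : Subgroup G)).factorization q ∧
      j + (Nat.card (center G)).factorization p = (Nat.card (Cfsg.pCore p G)).factorization p ∧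
      q ^ e < p ^ j := by
  have hp := T.two.p_prime
  have hq := T.two.q_prime
  haveI := Fact.mk hp
  haveI := Fact.mk hq
  haveI := CfsgLib.Solvable.pCore_normal p G
  have hU := CfsgLib.Solvable.pCore_isPGroup (G := G) p
  obtain ⟨u, hu⟩ := IsPGroup.iff_card.1 hU
  have h := orbit_lt (N := Cfsg.pCore p G) (B := (Q : Subgroup G)) (by
    rw [Q.card_eq_multiplicity, hu]
    exact ((Nat.coprime_primes hq hp).2 T.two.ne.symm).pow _ _) ht htc
  obtain ⟨e, he⟩ : ∃ e, (cent t).relIndex Q = q ^ e :=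
    let ⟨e, _, he⟩ := (Nat.dvd_prime_pow hq).1 (Q.card_eq_multiplicity ▸ index_dvd_card ((cent t).subgroupOf Q) :
      (cent t).relIndex Q ∣ q ^ _)
    ⟨e, he⟩
  obtain ⟨j, hj⟩ : ∃ j, (center G).relIndex (Cfsg.pCore p G) = p ^ j :=
    let ⟨j, _, hj⟩ := (Nat.dvd_prime_pow hp).1 (hu ▸ index_dvd_card ((center G).subgroupOf (Cfsg.pCore p G)) :
      (center G).relIndex (Cfsg.pCore p G) ∣ p ^ u)
    ⟨j, hj⟩
  have h1 := ((cent t).subgroupOf (Q : Subgroup G)).card_mul_index
  have h2 := ((center G).subgroupOf (Cfsg.pCore p G)).card_mul_index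
  change _ * (cent t).relIndex Q = _ at h1
  change _ * (center G).relIndex (Cfsg.pCore p G) = _ at h2
  rw [← inf_subgroupOf_right, Nat.card_congr (subgroupOfEquivOfLe inf_le_right).toEquiv, inf_comm, he] at h1
  rw [← inf_subgroupOf_right, Nat.card_congr (subgroupOfEquivOfLe inf_le_right).toEquiv, hj] at h2
  refine ⟨e, j, ?_, ?_, he ▸ hj ▸ h⟩
  · have h3 := congrArg (fun k => k.factorization q) h1
    simp only [Q.card_eq_multiplicity, Nat.factorization_mul Nat.card_pos.ne' (pow_ne_zero _ hq.ne_zero),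
      Finsupp.add_apply, hq.factorization_pow, Finsupp.single_eq_same] at h3
    omega
  · have h3 := congrArg (fun k => k.factorization p) h2
    simp only [Nat.factorization_mul Nat.card_pos.ne' (pow_ne_zero _ hp.ne_zero),
      Finsupp.add_apply, hp.factorization_pow, Finsupp.single_eq_same, T.fac_inf_center] at h3
    omega

/-- The final count. -/
theorem count (hU : ∃ t ∈ Cfsg.pCore p G, t ∉ center G) (hV : ∃ v ∈ Cfsg.pCore q G, v ∉ center G)
    (h2 : ∀ g v : G, (∃ i, g ^ p ^ i = 1) → v ∈ Cfsg.pCore q G → v ∉ center G → Commute g v →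
      g ∈ Cfsg.pCore p G)
    (h1 : ∀ g s t : G, Pr g p → Pr s q → t ∈ Cfsg.pCore p G → t ∉ center G → Commute g s → Commute s t →
      g ∈ Cfsg.pCore p G) : False := by
  have hp := T.two.p_prime
  have hq := T.two.q_prime
  haveI := Fact.mk hp
  haveI := Fact.mk hq
  haveI := CfsgLib.Solvable.pCore_normal p G
  haveI := CfsgLib.Solvable.pCore_normal q G
  obtain ⟨t, htU, htc⟩ := hU
  obtain ⟨v, hvV, hvc⟩ := hV
  have hpn := T.two.hyp.not_dvd_n hp T.two.p_dvd
  obtain ⟨P⟩ := (inferInstance : Nonempty (Sylow p G))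
  obtain ⟨Q⟩ := (inferInstance : Nonempty (Sylow q G))
  -- parts
  set FP := (Nat.card G).factorization p
  set FQ := (Nat.card G).factorization q
  set zp := (Nat.card (center G)).factorization p
  set zq := (Nat.card (center G)).factorization q
  set fU := (Nat.card (Cfsg.pCore p G)).factorization p
  set fV := (Nat.card (Cfsg.pCore q G)).factorization q
  obtain ⟨itv, hitv⟩ := pel_mul_of_mem (CfsgLib.Solvable.pCore_isPGroup (G := G) q) hvV
  have hvq : Pr v q := pr_of_pel hq hitv hvc
  obtain ⟨itt, hitt⟩ := pel_mul_of_mem (CfsgLib.Solvable.pCore_isPGroup (G := G) p) htU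
  have htp : Pr t p := pr_of_pel hp hitt htc
  have hav : (Nat.card (cent v)).factorization p + m.factorization p = FP :=
    T.two.symm.hyp.fac_cent hpn (by rw [mul_comm m n]; exact T.symm.index_p hvq |>.imp id fun e => by rwa [mul_comm n m])
  have hat : (Nat.card (cent t)).factorization q + n.factorization q = FQ :=
    T.two.hyp.fac_cent T.qm (T.index_p htp)
  have hmpos : 0 < m.factorization p :=
    hp.factorization_pos_of_dvd (by have := T.two.hyp.one_lt_m; omega) T.two.p_dvd
  -- `O_p` centralises a noncentral element of `O_q`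
  have hUv : fU ≤ (Nat.card (cent v)).factorization p := CfsgLib.InvChar.ConjRank.factorization_card_le
    (fun u hu => mem_cent.2 (T.core_commute hu hvV)) p
  -- an element outside `O_p`
  obtain ⟨g, hgP, hgU⟩ : ∃ g ∈ (P : Subgroup G), g ∉ Cfsg.pCore p G := by
    by_contra hcon
    push Not at hcon
    have := CfsgLib.InvChar.ConjRank.factorization_card_le (H := (P : Subgroup G)) hcon p
    rw [P.card_eq_multiplicity, hp.factorization_pow, Finsupp.single_eq_same] at this
    change FP ≤ fU at this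
    omega
  obtain ⟨ig, hig⟩ := pel_mul_of_mem P.isPGroup' hgP
  have hgp : Pr g p := pr_of_pel hp hig fun hc => hgU (T.center_le_core ⟨ig, hig⟩ hc)
  obtain ⟨s', hs', hs'q⟩ := T.two.exists_q (T.index_p hgp)
  have hag : (Nat.card (cent g)).factorization q + n.factorization q = FQ :=
    T.two.hyp.fac_cent T.qm (T.index_p hgp)
  -- a Sylow subgroup of `cent g` meets `O_q` centrally
  obtain ⟨S0⟩ := (inferInstance : Nonempty (Sylow q (cent g)))
  set S := (S0 : Subgroup (cent g)).map (cent g).subtype with hS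
  have hSfac : (Nat.card S).factorization q = (Nat.card (cent g)).factorization q := by
    rw [hS, card_map_of_injective (subtype_injective _), S0.card_eq_multiplicity, hq.factorization_pow,
      Finsupp.single_eq_same]
  have hSp : IsPGroup q S := S0.isPGroup'.map _
  have hSV : S ⊓ Cfsg.pCore q G ≤ center G := fun s hs => by_contra fun hc =>
    hgU (h2 g s ⟨ig, hig⟩ hs.2 hc (mem_cent.1 (map_subtype_le _ hs.1)).symm)
  have e3 := disjoint_fac hSp (CfsgLib.Solvable.pCore_isPGroup q) (normalizes_of_normal _ S) hSV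
  change _ + fV ≤ FQ + zq at e3
  -- a noncentral element of it
  obtain ⟨s, hsS, hsq⟩ := exists_pr hq (K := S) (by
    rw [hSfac]; exact fac_center_lt (cent_inf_center g) hs'q hs')
  have has : (Nat.card (cent s)).factorization p + m.factorization p = FP :=
    T.two.symm.hyp.fac_cent hpn (by rw [mul_comm m n]; exact T.symm.index_p hsq |>.imp id fun e => by rwa [mul_comm n m])
  obtain ⟨S1⟩ := (inferInstance : Nonempty (Sylow p (cent s)))
  set S' := (S1 : Subgroup (cent s)).map (cent s).subtype with hS'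
  have hS'fac : (Nat.card S').factorization p = (Nat.card (cent s)).factorization p := by
    rw [hS', card_map_of_injective (subtype_injective _), S1.card_eq_multiplicity, hp.factorization_pow,
      Finsupp.single_eq_same]
  have hS'U : S' ⊓ Cfsg.pCore p G ≤ center G := fun u hu => by_contra fun hc =>
    hgU (h1 g s u hgp hsq hu.2 hc (mem_cent.1 (map_subtype_le _ hsS)).symm
      (mem_cent.1 (map_subtype_le _ hu.1)).symm)
  have e4 := disjoint_fac (S1.isPGroup'.map (cent s).subtype) (CfsgLib.Solvable.pCore_isPGroup p)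
    (normalizes_of_normal _ _) hS'U
  change (Nat.card S').factorization p + fU ≤ FP + zp at e4
  -- the two orbits
  obtain ⟨e, j, he, hj, hlt⟩ := T.orbit_core htU htc Q
  obtain ⟨e', j', he', hj', hlt'⟩ := T.symm.orbit_core hvV hvc P
  have hQt := CfsgLib.InvChar.ConjRank.factorization_card_le
    (inf_le_right : (Q : Subgroup G) ⊓ cent t ≤ cent t) q
  have hPv : (Nat.card ((P : Subgroup G) ⊓ cent v : Subgroup G)).factorization p ≤ fU := by
    refine CfsgLib.InvChar.ConjRank.factorization_card_le (fun u hu => ?_) p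
    obtain ⟨i, hi⟩ := pel_mul_of_mem P.isPGroup' hu.1
    exact h2 u v ⟨i, hi⟩ hvV hvc (mem_cent.1 hu.2)
  change e + _ ≥ FQ at he
  change e' + _ ≥ FP at he'
  change j + zp = fU at hj
  change j' + zq = fV at hj'
  have h5 : p ^ j ≤ p ^ e' := Nat.pow_le_pow_right hp.pos (by omega)
  have h6 : q ^ j' ≤ q ^ e := Nat.pow_le_pow_right hq.pos (by omega)
  omega

/-- The case of elements of class size `n m` for both primes. -/
theorem case_both (hz : ∃ z : G, Pr z q ∧ (cent z).index = n * m) (hg : ∃ g : G, Pr g p ∧ (cent g).index = n * m) :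
    False := by
  have key : ∀ {n m p q : ℕ}, PQ G n m p q → (∃ z : G, Pr z q ∧ (cent z).index = n * m) →
      (∃ g : G, Pr g p ∧ (cent g).index = n * m) → (∃ t ∈ Cfsg.pCore p G, t ∉ center G) ∧
      ∀ s t : G, (∃ i, s ^ q ^ i = 1) → t ∈ Cfsg.pCore p G → t ∉ center G → Commute s t →
        s ∈ Cfsg.pCore q G := by
    intro n m p q T ⟨z, hz, hzi⟩ ⟨w, hw, hwi⟩
    haveI := Fact.mk T.two.p_prime
    haveI := Fact.mk T.two.q_prime
    obtain ⟨-, ⟨x, hxz, hx, hxn, -⟩, -⟩ := T.nm_cent hz hzi
    have hxU := T.mem_core_of_nm hz hzi hx hxn hxz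
    refine ⟨⟨x, hxU, hx.2.1⟩, fun s t hs ht htc hst => ?_⟩
    haveI := CfsgLib.Solvable.pCore_normal p G
    haveI := CfsgLib.Solvable.pCore_normal q G
    obtain ⟨it, hit⟩ := pel_mul_of_mem (CfsgLib.Solvable.pCore_isPGroup (G := G) p) ht
    have htp := pr_of_pel T.two.p_prime hit htc
    obtain ⟨is, his⟩ := hs
    have hsq : (orderOf s).Coprime p := Nat.Coprime.coprime_dvd_left (orderOf_dvd_of_pow_eq_one his)
      (((Nat.coprime_primes T.two.q_prime T.two.p_prime).2 T.two.ne.symm).pow_left is)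
    have habel : ∀ x' : G, Pr x' p → (cent x').index = n → Commute s x' → x' ∈ Cfsg.pCore p G →
        ∀ v ∈ Cfsg.pCore q G, Commute s v := fun x' hx' hx'n hsx hx'U v hv =>
      T.abel_n hx' hx'n (S := Cfsg.pCore q G ⊔ zpowers s)
        ((CfsgLib.Solvable.pCore_isPGroup q).to_sup_of_normal_left' (isPGroup_zpowers ⟨is, his⟩)
          (normalizes_of_normal _ _))
        (sup_le (fun u hu => mem_cent.2 (T.core_commute hx'U hu).symm) (zpowers_le.2 (mem_cent.2 hsx)))
        s (mem_sup_right (mem_zpowers s)) v (mem_sup_left hv)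
    have hsU : ∀ u ∈ Cfsg.pCore p G, Commute s u := by
      have mk : ∀ d : G, (∀ a ∈ cent d, ∀ b ∈ cent d, Commute a b) → (∃ i, d ^ p ^ i = 1) → s ∈ cent d →
          ∀ u ∈ Cfsg.pCore p G, Commute s u := fun d hd hdp hsd =>
        axb (CfsgLib.Solvable.pCore_isPGroup p) (normalizes_of_normal _ ⊤ (mem_top d)) hdp
          (normalizes_of_normal _ ⊤ (mem_top s)) hsq (mem_cent.1 hsd).symm
          fun u _ hdu => hd s hsd u (mem_cent.2 hdu.symm)
      rcases T.index_p htp with e | e
      · obtain ⟨hwab, ⟨y, hyw, hy, hym, -⟩, -⟩ := T.symm.nm_cent hw (by rw [hwi, mul_comm])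
        have hyV := T.symm.mem_core_of_nm hw (by rw [hwi, mul_comm]) hy hym hyw
        have hty : Commute t y := T.core_commute ht hyV
        have hwt : Commute w t := T.symm.abel_n hy hym (S := Cfsg.pCore p G ⊔ zpowers w)
          ((CfsgLib.Solvable.pCore_isPGroup p).to_sup_of_normal_left' (isPGroup_zpowers (pel_of_pr hw))
            (normalizes_of_normal _ _))
          (sup_le (fun u hu => mem_cent.2 (T.core_commute hu hyV)) (zpowers_le.2 (mem_cent.2 (mem_cent.1 hyw).symm)))
          w (mem_sup_right (mem_zpowers w)) t (mem_sup_left ht)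
        have hco := htp.coprime hy T.two.ne
        have hidx := T.two.hyp.index_mul (e ▸ dvd_rfl) (hym ▸ dvd_rfl) hty hco
        have heq : cent w = cent (t * y) := T.two.hyp.eq_max hidx (by
          rw [cent_mul_eq hty hco]
          exact le_inf (fun k hk => mem_cent.2 (hwab k hk t (mem_cent.2 hwt.symm)))
            fun k hk => mem_cent.2 (hwab k hk y hyw))
        refine mk w hwab (pel_of_pr hw) ?_
        rw [heq, cent_mul_eq hty hco]
        exact ⟨mem_cent.2 hst, mem_cent.2 (habel t htp e hst ht y hyV)⟩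
      · obtain ⟨htab, -, -⟩ := T.symm.nm_cent htp (by rw [e, mul_comm])
        exact mk t htab ⟨it, hit⟩ (mem_cent.2 hst)
    exact T.symm.mem_core ⟨is, his⟩ (habel x hx hxn (hsU x hxU) hxU) hsU
  obtain ⟨hU, hI⟩ := key T hz hg
  obtain ⟨hV, hII⟩ := key T.symm (hg.imp fun g h => ⟨h.1, by rw [h.2, mul_comm]⟩)
    (hz.imp fun z h => ⟨h.1, by rw [h.2, mul_comm]⟩)
  refine T.count hU hV hII fun g s t hg' hs ht htc hgs hst => ?_
  exact hII g s (pel_of_pr hg') (hI s t (pel_of_pr hs) ht htc hst) hs.2.1 hgs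

/-- If no `p`-element has class size `n m` the `p`-subgroups are abelian. -/
theorem abel_all (hn : ∀ g : G, Pr g p → (cent g).index = n) {S : Subgroup G} (hS : IsPGroup p S) :
    ∀ u ∈ S, ∀ v ∈ S, Commute u v := by
  haveI := Fact.mk T.two.p_prime
  haveI := T.solvable
  refine abelian_pgroup (D := ⊤) (Group.isSolvable_of_isSolvable_injective (⊤ : Subgroup G).subtype_injective)
    (fun u _ ⟨i, hi⟩ hd => ?_) hS le_top
  rw [relIndex_top_right] at hd
  by_cases hu : u ∈ center G
  · exact T.two.p_prime.not_dvd_one (index_eq_one_iff.2 hu ▸ hd)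
  · exact T.two.hyp.not_dvd_n T.two.p_prime T.two.p_dvd (hn u (pr_of_pel T.two.p_prime hi hu) ▸ hd)

/-- The case without `p`-elements of class size `n m`. -/
theorem case_one (hn : ∀ g : G, Pr g p → (cent g).index = n) (hU : ∃ t ∈ Cfsg.pCore p G, t ∉ center G) : False := by
  have hp := T.two.p_prime
  have hq := T.two.q_prime
  haveI := Fact.mk hp
  haveI := Fact.mk hq
  haveI := CfsgLib.Solvable.pCore_normal p G
  haveI := CfsgLib.Solvable.pCore_normal q G
  set U := Cfsg.pCore p G with hUdef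
  set V := Cfsg.pCore q G with hVdef
  obtain ⟨t₀, ht₀, ht₀c⟩ := hU
  obtain ⟨it₀, hit₀⟩ := pel_mul_of_mem (CfsgLib.Solvable.pCore_isPGroup (G := G) p) ht₀
  have ht₀n := hn t₀ (pr_of_pel hp hit₀ ht₀c)
  have hUc : ∀ g : G, (∃ i, g ^ p ^ i = 1) → ∀ u ∈ U, Commute g u := fun g hg u hu =>
    T.abel_all hn ((CfsgLib.Solvable.pCore_isPGroup p).to_sup_of_normal_left' (isPGroup_zpowers hg)
      (normalizes_of_normal _ _)) g (mem_sup_right (mem_zpowers g)) u (mem_sup_left hu)
  have hqab : ∀ S : Subgroup G, IsPGroup q S → S ≤ cent t₀ → ∀ a ∈ S, ∀ b ∈ S, Commute a b :=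
    fun S hS hSt => T.abel_n (pr_of_pel hp hit₀ ht₀c) ht₀n hS hSt
  have hVt : V ≤ cent t₀ := fun v hv => mem_cent.2 (T.core_commute ht₀ hv).symm
  have hVab := hqab V (CfsgLib.Solvable.pCore_isPGroup q) hVt
  -- `q`-elements centralising `O_p`
  have hqK : ∀ s : G, (∃ i, s ^ q ^ i = 1) → (∀ u ∈ U, Commute s u) → s ∈ V := fun s hs hsU =>
    T.symm.mem_core hs (fun v hv => hqab (V ⊔ zpowers s)
      ((CfsgLib.Solvable.pCore_isPGroup q).to_sup_of_normal_left' (isPGroup_zpowers hs) (normalizes_of_normal _ _))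
      (sup_le hVt (zpowers_le.2 (mem_cent.2 (hsU t₀ ht₀)))) s (mem_sup_right (mem_zpowers s)) v (mem_sup_left hv)) hsU
  obtain ⟨c, hc⟩ := T.n_eq
  -- elements of class size `m`
  have hfixU : ∀ s : G, Pr s q → (cent s).index = m → ∀ t ∈ U, t ∉ center G → Commute s t → s ∈ V := by
    intro s hs hsm t ht htc hst
    obtain ⟨Q, hQ⟩ := exists_sylow_le (hsm.symm ▸ T.qm : ¬ q ∣ (cent s).index)
    obtain ⟨is, his⟩ := pel_of_pr hs
    refine hqK s ⟨is, his⟩ (fixes_of_orbits (N := U) (B := (Q : Subgroup G))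
      (fun a ha b hb => hUc a (pel_mul_of_mem (CfsgLib.Solvable.pCore_isPGroup p) ha) b hb)
      (normalizes_of_normal _ _) (mem_sylow_of_le_cent Q ⟨is, his⟩ hQ) hQ ?_ ht htc hst ?_)
    · obtain ⟨e, he⟩ := IsPGroup.iff_card.1 (CfsgLib.Solvable.pCore_isPGroup (G := G) p)
      rw [hUdef, he]
      exact ((Nat.Coprime.coprime_dvd_left (orderOf_dvd_of_pow_eq_one his)
        (((Nat.coprime_primes hq hp).2 T.two.ne.symm).pow_left is))).pow_right e
    · have hsame : ∀ t₁ ∈ U, t₁ ∉ center G →
          Nat.card ((Q : Subgroup G) ⊓ cent t₁ : Subgroup G) * n = Nat.card Q := by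
        intro t₁ ht₁ ht₁c
        obtain ⟨i, hi⟩ := pel_mul_of_mem (CfsgLib.Solvable.pCore_isPGroup (G := G) p) ht₁
        have hi1 := hn t₁ (pr_of_pel hp hi ht₁c)
        have hcop : (Q : Subgroup G).index.Coprime (cent t₁).index := by
          rw [hi1, hc]
          exact ((Nat.Prime.coprime_iff_not_dvd hq).2 Q.not_dvd_index).symm.pow_right c
        have h1 : (cent t₁).relIndex Q = n := by
          rw [relIndex_eq_of_mul (K := ⊤) le_top fun k _ => ?_, relIndex_top_right, hi1]
          obtain ⟨a, ha, b, hb, hk⟩ := CfsgLib.StructC.ClassCoprime.exists_mul_eq hcop k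
          exact ⟨a, ha, b, hb, hk⟩
        have h2 := ((cent t₁).subgroupOf (Q : Subgroup G)).card_mul_index
        change _ * (cent t₁).relIndex Q = _ at h2
        rwa [h1, ← inf_subgroupOf_right, Nat.card_congr (subgroupOfEquivOfLe inf_le_right).toEquiv, inf_comm] at h2
      exact fun t₁ a b t₂ a' b' => Nat.eq_of_mul_eq_mul_right (by have := T.two.hyp.one_lt_n; omega)
        ((hsame t₁ a b).trans (hsame t₂ a' b').symm)
  have hV : ∃ v ∈ V, v ∉ center G := by
    obtain ⟨s, hs, hsq⟩ := T.two.exists_q (g := t₀) (Or.inl ht₀n)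
    rcases T.symm.index_p hsq with e | e
    · exact ⟨s, hfixU s hsq e t₀ ht₀ ht₀c (mem_cent.1 hs), hsq.2.1⟩
    · obtain ⟨hab, -, y, hy, hyq, hym⟩ := T.nm_cent hsq (by rw [e, mul_comm])
      exact ⟨y, hfixU y hyq hym t₀ ht₀ ht₀c (hab y hy t₀ (mem_cent_comm.1 hs)), hyq.2.1⟩
  have h2 : ∀ g v : G, (∃ i, g ^ p ^ i = 1) → v ∈ V → v ∉ center G → Commute g v → g ∈ U := by
    intro g v hg hv hvc hgv
    obtain ⟨P, hgP⟩ := (isPGroup_zpowers hg).exists_le_sylow
    have hgP' : g ∈ (P : Subgroup G) := hgP (mem_zpowers g)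
    have hPab := T.abel_all hn P.isPGroup'
    -- `centralizer U` is covered by `P` and `V`
    set C := centralizer (U : Set G) with hC
    have hPC : ∀ P' : Sylow p G, (P' : Subgroup G) ≤ C := fun P' w hw => mem_centralizer_iff.2 fun u hu =>
      (hUc w (pel_mul_of_mem P'.isPGroup' hw) u hu).symm.eq
    haveI : (V ⊔ center G).Normal := inferInstance
    have hCM : C ≤ (V ⊔ center G) ⊔ (P : Subgroup G) := by
      rw [← subgroupOf_eq_top]
      refine CfsgLib.Solvable.eq_top_of_forall_prime fun l hl hd => ?_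
      haveI := Fact.mk hl
      rcases eq_or_ne l p with rfl | hlp
      · exact not_dvd_relIndex P le_sup_right (hPC P) hd
      · obtain ⟨L⟩ := (inferInstance : Nonempty (Sylow l C))
        refine L.not_dvd_index (hd.trans (index_dvd_of_le fun k hk => mem_subgroupOf.2 (mem_sup_left ?_)))
        obtain ⟨i, hi⟩ := L.isPGroup' ⟨k, hk⟩
        have hi' : (k : G) ^ l ^ i = 1 :=
          congrArg (fun z : (L : Subgroup C) => ((z : C) : G)) hi
        by_cases hkc : (k : G) ∈ center G
        · exact mem_sup_right hkc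
        rcases T.only _ l (pr_of_pel hl hi' hkc) with e | e
        · exact absurd e hlp
        · exact mem_sup_left (hqK k ⟨i, e ▸ hi'⟩ fun u hu => (mem_centralizer_iff.1 k.2 u hu).symm)
    have hfac : ∀ v' ∈ V, v' ∉ center G →
        (Nat.card ((P : Subgroup G) ⊓ cent v' : Subgroup G)).factorization p =
          (Nat.card (cent v')).factorization p := by
      intro v' hv' hv'c
      refine le_antisymm (CfsgLib.InvChar.ConjRank.factorization_card_le inf_le_right p) ?_
      obtain ⟨S⟩ := (inferInstance : Nonempty (Sylow p (cent v')))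
      obtain ⟨P2, hP2⟩ := (S.isPGroup'.map (cent v').subtype).exists_le_sylow
      obtain ⟨k, hk⟩ := MulAction.exists_smul_eq C (P2.subtype (hPC P2)) (P.subtype (hPC P))
      obtain ⟨g', hg', w, hw, hkw⟩ := mem_sup_of_normal_left.1 (hCM (C.inv_mem k.2))
      have hwv : Commute g' v' := by
        obtain ⟨a, ha, b, hb, rfl⟩ := mem_sup_of_normal_right.1 hg'
        exact (hVab a ha v' hv').mul_left (mem_center_iff.1 hb v').symm
      have hle : ((S : Subgroup (cent v')).map (cent v').subtype).map (MulAut.conj g'⁻¹).toMonoidHom ≤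
          (P : Subgroup G) ⊓ cent v' := by
        rintro _ ⟨u, hu, rfl⟩
        refine ⟨?_, mem_cent.2 ?_⟩
        · have h1 : k * (⟨u, hPC P2 (hP2 hu)⟩ : C) * k⁻¹ ∈ ((P.subtype (hPC P) : Sylow p C) : Subgroup C) := by
            rw [← hk]
            exact ⟨⟨u, hPC P2 (hP2 hu)⟩, hP2 hu, rfl⟩
          have h2 : (k : G) * u * (k : G)⁻¹ ∈ (P : Subgroup G) := h1
          show g'⁻¹ * u * g'⁻¹⁻¹ ∈ (P : Subgroup G)
          have h3 := (P : Subgroup G).mul_mem ((P : Subgroup G).mul_mem hw h2) ((P : Subgroup G).inv_mem hw)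
          have hk' : (k : G) = w⁻¹ * g'⁻¹ := by rw [← inv_inv (k : G), ← hkw, mul_inv_rev]
          rw [hk'] at h3
          convert h3 using 1
          group
        · exact (hwv.inv_left.mul_left (mem_cent.1 (map_subtype_le _ hu))).mul_left (by simpa using hwv)
      refine le_trans (le_of_eq ?_) (CfsgLib.InvChar.ConjRank.factorization_card_le hle p)
      rw [card_map_of_injective (MulEquiv.injective _), card_map_of_injective (subtype_injective _),
        S.card_eq_multiplicity, hp.factorization_pow, Finsupp.single_eq_same]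
    obtain ⟨ig, hig⟩ := hg
    refine T.mem_core ⟨ig, hig⟩ (hUc g ⟨ig, hig⟩) (fixes_of_orbits (N := V) (B := (P : Subgroup G)) hVab
      (normalizes_of_normal _ _) hgP' (fun w hw => mem_cent.2 (hPab w hw g hgP')) ?_ hv hvc hgv ?_)
    · obtain ⟨e, he⟩ := IsPGroup.iff_card.1 (CfsgLib.Solvable.pCore_isPGroup (G := G) q)
      rw [hVdef, he]
      exact ((Nat.Coprime.coprime_dvd_left (orderOf_dvd_of_pow_eq_one hig)
        (((Nat.coprime_primes hp hq).2 T.two.ne).pow_left ig)).pow_right e)
    · intro v₁ hv₁ hv₁c v₂ hv₂ hv₂c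
      have hf : ∀ v' ∈ V, v' ∉ center G → (Nat.card (cent v')).factorization p + m.factorization p =
          (Nat.card G).factorization p := fun v' hv' hv'c => by
        obtain ⟨i, hi⟩ := pel_mul_of_mem (CfsgLib.Solvable.pCore_isPGroup (G := G) q) hv'
        refine T.two.symm.hyp.fac_cent (T.two.hyp.not_dvd_n hp T.two.p_dvd) ?_
        rw [mul_comm m n]
        exact (T.symm.index_p (pr_of_pel hq hi hv'c)).imp id fun e => by rwa [mul_comm n m]
      obtain ⟨e₁, he₁⟩ := IsPGroup.iff_card.1 (P.isPGroup'.to_le (inf_le_left : (P : Subgroup G) ⊓ cent v₁ ≤ P))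
      obtain ⟨e₂, he₂⟩ := IsPGroup.iff_card.1 (P.isPGroup'.to_le (inf_le_left : (P : Subgroup G) ⊓ cent v₂ ≤ P))
      have a1 := hfac v₁ hv₁ hv₁c
      have a2 := hfac v₂ hv₂ hv₂c
      have b1 := hf v₁ hv₁ hv₁c
      have b2 := hf v₂ hv₂ hv₂c
      rw [he₁, hp.factorization_pow, Finsupp.single_eq_same] at a1
      rw [he₂, hp.factorization_pow, Finsupp.single_eq_same] at a2
      rw [he₁, he₂, show e₁ = e₂ by omega]
  refine T.count ⟨t₀, ht₀, ht₀c⟩ hV h2 fun g s t hg hs ht htc hgs hst => ?_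
  rcases T.symm.index_p hs with e | e
  · exact h2 g s (pel_of_pr hg) (hfixU s hs e t ht htc hst) hs.2.1 hgs
  · obtain ⟨hab, -, y, hy, hyq, hym⟩ := T.nm_cent hs (by rw [e, mul_comm])
    exact h2 g y (pel_of_pr hg) (hfixU y hyq hym t ht htc (hab y hy t (mem_cent.2 hst.symm))) hyq.2.1
      (hab g (mem_cent.2 hgs) y hy)

theorem false : False := by
  have hp := T.two.p_prime
  have hq := T.two.q_prime
  by_cases hg : ∃ g : G, Pr g p ∧ (cent g).index = n * m
  · by_cases hz : ∃ z : G, Pr z q ∧ (cent z).index = n * m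
    · exact T.case_both hz hg
    · obtain ⟨g, hg, hgi⟩ := hg
      obtain ⟨-, ⟨y, hyg, hy, hym, -⟩, -⟩ := T.symm.nm_cent hg (by rw [hgi, mul_comm])
      refine T.symm.case_one (fun z hz' => ?_) ⟨y, T.symm.mem_core_of_nm hg (by rw [hgi, mul_comm]) hy hym hyg, hy.2.1⟩
      exact (T.symm.index_p hz').resolve_right fun e => hz ⟨z, hz', by rw [e, mul_comm]⟩
  · have hn : ∀ g : G, Pr g p → (cent g).index = n := fun g hg' =>
      (T.index_p hg').resolve_right fun e => hg ⟨g, hg', e⟩
    by_cases hz : ∃ z : G, Pr z q ∧ (cent z).index = n * m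
    · obtain ⟨z, hz, hzi⟩ := hz
      obtain ⟨-, ⟨x, hxz, hx, hxn, -⟩, -⟩ := T.nm_cent hz hzi
      exact T.case_one hn ⟨x, T.mem_core_of_nm hz hzi hx hxn hxz, hx.2.1⟩
    · by_cases hU : ∃ t ∈ Cfsg.pCore p G, t ∉ center G
      · exact T.case_one hn hU
      have hm : ∀ y : G, Pr y q → (cent y).index = m := fun y hy =>
        (T.symm.index_p hy).resolve_right fun e => hz ⟨y, hy, by rw [e, mul_comm]⟩
      obtain ⟨y, hy, -⟩ := T.two.exm
      haveI := Fact.mk hq
      haveI := CfsgLib.Solvable.pCore_normal q G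
      refine T.symm.case_one hm ⟨y, T.symm.mem_core (pel_of_pr hy) (fun v hv => ?_) (fun u hu => ?_), hy.2.1⟩
      · exact T.symm.abel_all hm ((CfsgLib.Solvable.pCore_isPGroup q).to_sup_of_normal_left'
          (isPGroup_zpowers (pel_of_pr hy)) (normalizes_of_normal _ _)) y (mem_sup_right (mem_zpowers y)) v
          (mem_sup_left hv)
      · exact mem_center_iff.1 (by_contra fun hc => hU ⟨u, hu, hc⟩) y

end PQ

/-- Class sizes `1, n, m, n m`: nilpotent, and `n`, `m` prime powers. -/
theorem Hyp.conclusion {n m : ℕ} (H : Hyp G n m) : Group.IsNilpotent G ∧ IsPrimePow n ∧ IsPrimePow m := by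
  by_cases hn : ∃ (x : G) (p : ℕ), Pr x p ∧ (cent x).index = n ∧ ¬ p ∣ m
  · obtain ⟨x, p, hx, hxn, hpm⟩ := hn
    exact H.main hx hxn hpm
  by_cases hm : ∃ (y : G) (q : ℕ), Pr y q ∧ (cent y).index = m ∧ ¬ q ∣ n
  · obtain ⟨y, q, hy, hym, hqn⟩ := hm
    obtain ⟨h1, h2, h3⟩ := H.symm.main hy hym hqn
    exact ⟨h1, h3, h2⟩
  push Not at hn hm
  obtain ⟨p, q, T⟩ := HB.exists_two ⟨H, fun x p hx e => hn x p hx e, fun y q hy e => hm y q hy e⟩
  exact (PQ.false ⟨T, fun z r hz => T.only_two hz⟩).elim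

end CfsgLib.Perm.FourSizes
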