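import Cfsg.Agent.Lib.Perm.FourSizes.Pair
import Cfsg.Agent.Lib.Perm.FourSizes.Members
import Cfsg.Agent.Lib.Perm.ThreeSizes.Central
import Cfsg.Agent.Lib.Solvable.HallHigman

/-!
# Two primes: abelian Sylow subgroups and the two cores
-/

set_option autoImplicit false
set_option linter.unusedSectionVars false

namespace CfsgLib.Perm.FourSizes

open Subgroup
open CfsgLib.InvChar.ConjRank (cent mem_cent self_mem_cent mem_cent_comm cent_le_pow)
open CfsgLib.Perm.ThreeSizes.Thick (Pr cent_mul_eq cent_inf_center cent_eq_top)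

universe u
variable {G : Type u} [Group G] [Finite G]

/-- In a soluble group whose `q`-elements have class sizes prime to `q` the `q`-subgroups are abelian. -/
theorem abelian_sylow {K : Type u} [Group K] [Finite K] [Group.IsSolvable K] {q : ℕ} [Fact q.Prime]
    (h : ∀ u : K, (∃ i, u ^ q ^ i = 1) → ¬ q ∣ (cent u).index) (S : Sylow q K) :
    ∀ u ∈ (S : Subgroup K), ∀ v ∈ (S : Subgroup K), Commute u v := by
  set O := Cfsg.pPrimeCore q K with hO
  haveI : O.Normal := CfsgLib.Solvable.pPrimeCore_normal q K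
  set F := Cfsg.pCore q (K ⧸ O) with hF
  haveI : Group.IsSolvable (K ⧸ O) := Group.isSolvable_of_surjective (QuotientGroup.mk'_surjective O)
  have hcF : centralizer (F : Set (K ⧸ O)) ≤ F :=
    CfsgLib.Solvable.centralizer_pCore_le q (CfsgLib.Solvable.pPrimeCore_quotient_eq_bot q)
  have hcent : ∀ u : K, (∃ i, u ^ q ^ i = 1) →
      QuotientGroup.mk' O u ∈ centralizer (F : Set (K ⧸ O)) := by
    intro u hu
    obtain ⟨R, hR⟩ := exists_sylow_le (h u hu)
    refine mem_centralizer_iff.2 fun f hf => ?_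
    obtain ⟨t, ht, rfl⟩ := mem_map.1 (CfsgLib.Solvable.pCore_le_sylow
      (R.mapSurjective (QuotientGroup.mk'_surjective O)) hf)
    exact ((mem_cent.1 (hR ht)).map (QuotientGroup.mk' O)).eq
  intro u hu v hv
  have h1 := mem_centralizer_iff.1 (hcent u (pel_mul_of_mem S.isPGroup' hu)) _
    (hcF (hcent v (pel_mul_of_mem S.isPGroup' hv)))
  have h2 : u * v * u⁻¹ * v⁻¹ ∈ O := by
    rw [← QuotientGroup.eq_one_iff, ← QuotientGroup.mk'_apply, map_mul, map_mul, map_mul, map_inv, map_inv,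
      ← h1]
    group
  obtain ⟨i, hi⟩ := pel_mul_of_mem S.isPGroup' (mul_mem (mul_mem (mul_mem hu hv) (inv_mem hu)) (inv_mem hv))
  have h3 : u * v * u⁻¹ * v⁻¹ = 1 := eq_one_of_pel hi
    (Nat.Coprime.coprime_dvd_left (O.orderOf_dvd_natCard h2) (CfsgLib.Solvable.pPrimeCore_coprime q))
  rwa [mul_inv_eq_one, mul_inv_eq_iff_eq_mul] at h3

/-- The same inside a soluble subgroup. -/
theorem abelian_pgroup {D : Subgroup G} (hD : Group.IsSolvable D) {q : ℕ} [Fact q.Prime]
    (h : ∀ u ∈ D, (∃ i, u ^ q ^ i = 1) → ¬ q ∣ (cent u).relIndex D) {S : Subgroup G} (hS : IsPGroup q S)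
    (hSD : S ≤ D) : ∀ u ∈ S, ∀ v ∈ S, Commute u v := by
  haveI := hD
  have hS' : IsPGroup q (S.subgroupOf D) := hS.comap_of_injective _ D.subtype_injective
  obtain ⟨R, hR⟩ := hS'.exists_le_sylow
  intro u hu v hv
  refine (abelian_sylow (K := D) (fun w ⟨i, hi⟩ => ?_) R ⟨u, hSD hu⟩ (hR hu) ⟨v, hSD hv⟩ (hR hv)).map D.subtype
  have e : cent w = (cent (w : G)).subgroupOf D := by
    ext y
    rw [mem_cent, mem_subgroupOf, mem_cent]
    exact ⟨fun hy => congrArg Subtype.val hy, fun hy => Subtype.ext hy⟩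
  rw [e]
  exact h w w.2 ⟨i, by rw [← SubmonoidClass.coe_pow, hi, OneMemClass.coe_one]⟩

/-- An element fixing one noncentral element of an abelian group fixes all, if the orbits have one size. -/
theorem fixes_of_orbits {N B : Subgroup G} (hNc : ∀ a ∈ N, ∀ b ∈ N, Commute a b)
    (hB : B ≤ normalizer (N : Set G)) {y : G} (hyB : y ∈ B) (hBy : B ≤ cent y)
    (hco : (orderOf y).Coprime (Nat.card N)) {t : G} (ht : t ∈ N) (htc : t ∉ center G) (hty : Commute y t)
    (hκ : ∀ t₁ ∈ N, t₁ ∉ center G → ∀ t₂ ∈ N, t₂ ∉ center G →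
      Nat.card (B ⊓ cent t₁ : Subgroup G) = Nat.card (B ⊓ cent t₂ : Subgroup G)) :
    ∀ u ∈ N, Commute y u := by
  intro u hu
  by_contra hcon
  set A := zpowers y with hA
  have hI := CfsgLib.Coprime.commutator_inf_centralizer_eq_bot (A := A)
    (⟨⟨fun a b => Subtype.ext (hNc a a.2 b b.2)⟩⟩ : IsMulCommutative N) (zpowers_le.2 (hB hyB))
    (by rwa [Nat.card_zpowers])
  have hcA : ∀ {w : G}, Commute y w → w ∈ centralizer (A : Set G) := fun {w} hw =>
    mem_centralizer_iff.2 fun a ha => by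
      obtain ⟨j, rfl⟩ := mem_zpowers_iff.1 ha
      exact (hw.zpow_left j).eq
  set k := u * y * u⁻¹ * y⁻¹ with hk
  have hkI : k ∈ ⁅N, A⁆ := commutator_mem_commutator hu (mem_zpowers y)
  have hkN : k ∈ N := by
    rw [hk, show u * y * u⁻¹ * y⁻¹ = u * (y * u⁻¹ * y⁻¹) by group]
    exact mul_mem hu ((mem_normalizer_iff.1 (hB hyB) _).1 (inv_mem hu))
  have hk1 : ¬ Commute y k := fun h => hcon (by
    have e := (Subgroup.mem_bot).1 (hI.le ⟨hkI, hcA h⟩)
    rw [hk, mul_inv_eq_one, mul_inv_eq_iff_eq_mul] at e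
    exact e.symm)
  have hkc : k ∉ center G := fun h => hk1 (mem_center_iff.1 h y)
  have htkc : t * k ∉ center G := fun h => hk1 (by
    have h1 := (show Commute y (t * k) from mem_center_iff.1 h y)
    have h2 := hty.inv_right.mul_right h1
    rwa [inv_mul_cancel_left] at h2)
  have hle : B ⊓ cent (t * k) ≤ B ⊓ cent t := by
    rintro d ⟨hdB, hd⟩
    refine ⟨hdB, mem_cent.2 (mul_inv_eq_iff_eq_mul.1 ?_)⟩
    have hdy : Commute d y := mem_cent.1 (hBy hdB)
    have h1 : t⁻¹ * (d * t * d⁻¹) ∈ centralizer (A : Set G) := hcA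
      (hty.inv_right.mul_right (((hdy.symm.mul_right hty)).mul_right hdy.symm.inv_right))
    have h2 : t⁻¹ * (d * t * d⁻¹) = k * (d * k * d⁻¹)⁻¹ := by
      calc t⁻¹ * (d * t * d⁻¹) = t⁻¹ * (d * (t * k) * d⁻¹) * (d * k * d⁻¹)⁻¹ := by group
        _ = k * (d * k * d⁻¹)⁻¹ := by rw [(mem_cent.1 hd).eq, mul_inv_cancel_right, inv_mul_cancel_left]
    have h3 : d * k * d⁻¹ ∈ ⁅N, A⁆ := by
      have e : d * k * d⁻¹ = d * u * d⁻¹ * y * (d * u * d⁻¹)⁻¹ * y⁻¹ := by
        calc d * k * d⁻¹ = d * u * d⁻¹ * (d * y * d⁻¹) * (d * u * d⁻¹)⁻¹ * (d * y * d⁻¹)⁻¹ := by rw [hk]; group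
          _ = _ := by rw [hdy.eq, mul_inv_cancel_right]
      rw [e]
      exact commutator_mem_commutator ((mem_normalizer_iff.1 (hB hdB) u).1 hu) (mem_zpowers y)
    have h4 : t⁻¹ * (d * t * d⁻¹) = 1 :=
      Subgroup.mem_bot.1 (hI.le ⟨h2 ▸ Subgroup.mul_mem _ hkI (Subgroup.inv_mem _ h3), h1⟩)
    exact (inv_mul_eq_one.1 h4).symm
  have heq := eq_of_le_of_card_ge hle (hκ t ht htc _ (mul_mem ht hkN) htkc).le
  have hytk : Commute y (t * k) := mem_cent.1 (heq.ge ⟨hyB, mem_cent.2 hty⟩).2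
  refine hk1 ?_
  have h2 := hty.inv_right.mul_right hytk
  rwa [inv_mul_cancel_left] at h2

/-- Two primes only. -/
structure PQ (G : Type u) [Group G] (n m p q : ℕ) : Prop where
  two : Two G n m p q
  only : ∀ (z : G) (r : ℕ), Pr z r → r = p ∨ r = q

namespace PQ

variable {n m p q : ℕ} (T : PQ G n m p q)
include T

theorem symm : PQ G m n q p := ⟨T.two.symm, fun z r hz => (T.only z r hz).symm⟩

theorem solvable : Group.IsSolvable G := by
  have hp := T.two.p_prime
  have hq := T.two.q_prime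
  obtain ⟨a, m', hm', ham⟩ := Nat.exists_eq_pow_mul_and_not_dvd
    (Nat.card_pos (α := G ⧸ center G)).ne' p hp.ne_one
  have hm0 : m' ≠ 0 := fun e => (Nat.card_pos (α := G ⧸ center G)).ne' (by rw [ham, e, mul_zero])
  have hmq := Nat.eq_prime_pow_of_unique_prime_dvd hm0 (p := q) fun {d} hd hdm => by
    haveI := Fact.mk hd
    obtain ⟨t, ht⟩ := exists_prime_orderOf_dvd_card' d (ham ▸ dvd_mul_of_dvd_right hdm _)
    obtain ⟨y, k, hy, -, hyo, -⟩ := CfsgLib.Perm.ThreeSizes.exists_lift hd ht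
    exact (T.only y d ⟨hd, hy, hyo⟩).resolve_left fun e => hm' (e ▸ hdm)
  exact CfsgLib.Perm.ThreeSizes.isSolvable_of_mod_center
    (CfsgLib.Char.burnside_pq p q hp hq a _ _ (by rw [ham, ← hmq]))

theorem n_eq : ∃ c, n = q ^ c := by
  refine ⟨_, Nat.eq_prime_pow_of_unique_prime_dvd (by have := T.two.hyp.one_lt_n; omega) (p := q)
    fun {d} hd hdn => ?_⟩
  obtain ⟨x, hx, hxn⟩ := T.two.exn
  haveI := Fact.mk hd
  have h1 : d ∣ Nat.card (G ⧸ center G) := by
    rw [← index_eq_card]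
    exact (hxn.symm ▸ hdn : d ∣ (cent x).index).trans (index_dvd_of_le (cent_inf_center x))
  obtain ⟨t, ht⟩ := exists_prime_orderOf_dvd_card' d h1
  obtain ⟨y, k, hy, -, hyo, -⟩ := CfsgLib.Perm.ThreeSizes.exists_lift hd ht
  exact (T.only y d ⟨hd, hy, hyo⟩).resolve_left fun e =>
    T.two.hyp.not_dvd_n T.two.p_prime T.two.p_dvd (e ▸ hdn)

theorem qm : ¬ q ∣ m := T.two.hyp.not_dvd_m T.two.q_prime T.two.q_dvd

/-- In a centraliser of index `n` of a `p`-element the `q`-subgroups are abelian. -/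
theorem abel_n {x : G} (hx : Pr x p) (hxn : (cent x).index = n) {S : Subgroup G} (hS : IsPGroup q S)
    (hSx : S ≤ cent x) : ∀ u ∈ S, ∀ v ∈ S, Commute u v := by
  haveI := Fact.mk T.two.q_prime
  haveI := T.solvable
  refine abelian_pgroup (Group.isSolvable_of_isSolvable_injective (cent x).subtype_injective)
    (fun u hu ⟨i, hi⟩ hd => ?_) hS hSx
  rcases T.two.hyp.rel_cases hxn (mem_cent.1 hu).symm
    (coprime_of_pel hi (coprime_of_ne T.two.p_prime T.two.q_prime T.two.ne hx.2.2)).symm with e | e <;>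
    rw [e] at hd
  · exact T.two.q_prime.not_dvd_one hd
  · exact T.qm hd

/-- A `p`-element centralising both cores lies in the first. -/
theorem mem_core {g : G} (hg : ∃ i, g ^ p ^ i = 1) (hU : ∀ u ∈ Cfsg.pCore p G, Commute g u)
    (hV : ∀ v ∈ Cfsg.pCore q G, Commute g v) : g ∈ Cfsg.pCore p G := by
  haveI := T.solvable
  haveI := Fact.mk T.two.p_prime
  set F := Cfsg.fittingSubgroup G with hF
  haveI : F.Normal := CfsgLib.Solvable.fittingSubgroup_normal G
  have hFc : F ≤ cent g := by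
    rw [hF, CfsgLib.Solvable.fittingSubgroup_eq_iSup_pCore]
    refine iSup_le fun r u hu => mem_cent.2 ?_
    haveI : Fact (r : ℕ).Prime := ⟨r.2⟩
    by_cases hc : u ∈ center G
    · exact (mem_center_iff.1 hc g).symm
    obtain ⟨i, hi⟩ := pel_mul_of_mem (CfsgLib.Solvable.pCore_isPGroup (G := G) (r : ℕ)) hu
    rcases T.only u r (pr_of_pel r.2 hi hc) with e | e <;> rw [e] at hu
    · exact (hU u hu).symm
    · exact (hV u hu).symm
  have hgF : g ∈ F := CfsgLib.Solvable.centralizer_fittingSubgroup_le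
    (mem_centralizer_iff.2 fun u hu => mem_cent.1 (hFc hu))
  obtain ⟨i, hi⟩ := hg
  have hn : (CfsgLib.OddLocal.pPart p F).Normal := normalizer_eq_top_iff.1 (top_le_iff.1
    ((normalizer_eq_top F).ge.trans (CfsgLib.OddLocal.normalizer_le_normalizer_pPart p F)))
  exact CfsgLib.Solvable.le_pCore hn (CfsgLib.OddLocal.pPart_isPGroup p F)
    (CfsgLib.OddLocal.mem_pPart CfsgLib.Solvable.fittingSubgroup_isNilpotent hgF hi)

theorem core_commute {u v : G} (hu : u ∈ Cfsg.pCore p G) (hv : v ∈ Cfsg.pCore q G) : Commute u v := by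
  haveI := Fact.mk T.two.p_prime
  haveI := Fact.mk T.two.q_prime
  exact Subgroup.commute_of_normal_of_disjoint _ _ (CfsgLib.Solvable.pCore_normal p G)
    (CfsgLib.Solvable.pCore_normal q G)
    (IsPGroup.disjoint_of_ne p q T.two.ne _ _ (CfsgLib.Solvable.pCore_isPGroup p) (CfsgLib.Solvable.pCore_isPGroup q))
    u v hu hv

theorem center_le_core {g : G} (hg : ∃ i, g ^ p ^ i = 1) (hgc : g ∈ center G) : g ∈ Cfsg.pCore p G := by
  haveI := Fact.mk T.two.p_prime
  refine CfsgLib.Solvable.le_pCore (N := zpowers g) ⟨fun k hk c => ?_⟩ (isPGroup_zpowers hg) (mem_zpowers g)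
  rwa [mem_center_iff.1 (zpowers_le.2 hgc hk) c, mul_inv_cancel_right]

/-- A `q`-element of class size `n m`: abelian centraliser with elements of class sizes `n` and `m`. -/
theorem nm_cent {z : G} (hz : Pr z q) (hzi : (cent z).index = n * m) :
    (∀ u ∈ cent z, ∀ v ∈ cent z, Commute u v) ∧
      (∃ x ∈ cent z, Pr x p ∧ (cent x).index = n ∧ cent z ≤ cent x) ∧
      ∃ y ∈ cent z, Pr y q ∧ (cent y).index = m := by
  haveI := Fact.mk T.two.p_prime
  haveI := Fact.mk T.two.q_prime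
  obtain ⟨x, hx, hxn⟩ := T.two.exn
  obtain ⟨v, hv, hvp⟩ := T.two.symm.exists_q (g := z) (Or.inr (by rw [hzi, mul_comm]))
  obtain ⟨x', hx'z, hx'p, hx'n⟩ : ∃ x' ∈ cent z, Pr x' p ∧ (cent x').index = n := by
    rcases T.two.hyp.cases hvp.2.1 with e | e | e
    · exact ⟨v, hv, hvp, e⟩
    · exact absurd (T.two.um v p hvp e) T.two.ne
    · obtain ⟨c, hc⟩ := exists_conj_commute
        (hxn.symm ▸ T.two.hyp.not_dvd_n T.two.p_prime T.two.p_dvd) hvp
      exact ⟨_, T.two.hyp.cent_le_of_max e (mem_cent.1 hv) (hvp.coprime hz T.two.ne) (mem_cent_comm.1 hc),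
        hx.conj c, (index_cent_conj c x).trans hxn⟩
  have hle : cent z ≤ cent x' :=
    T.two.hyp.cent_le_of_max hzi (mem_cent.1 hx'z).symm (hz.coprime hx'p T.two.ne.symm)
  obtain ⟨y, hy, hym⟩ := T.two.exm
  obtain ⟨c, hc⟩ := exists_conj_commute (hym.symm ▸ T.qm) hz
  refine ⟨?_, ⟨x', hx'z, hx'p, hx'n, hle⟩, _, mem_cent_comm.1 hc, hy.conj c, (index_cent_conj c y).trans hym⟩
  obtain ⟨iz, hiz⟩ := pel_of_pr hz
  have hother : ∀ u ∈ cent z, (orderOf u).Coprime q → cent z ≤ cent u := fun u hu huq =>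
    T.two.hyp.cent_le_of_max hzi (mem_cent.1 hu).symm (coprime_of_pel hiz huq)
  have hnil : Group.IsNilpotent (cent z) := by
    refine CfsgLib.OddLocal.isNilpotent_of_commute _ fun l l' hl hl' hne a ha b hb i j hi hj => ?_
    rcases eq_or_ne l q with rfl | hlq
    · exact (mem_cent.1 (hother b hb (Nat.Coprime.coprime_dvd_left (orderOf_dvd_of_pow_eq_one hj)
        (((Nat.coprime_primes hl' hl).2 hne.symm).pow_left j)) ha)).eq
    · exact (mem_cent.1 (hother a ha (Nat.Coprime.coprime_dvd_left (orderOf_dvd_of_pow_eq_one hi)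
        (((Nat.coprime_primes hl T.two.q_prime).2 hlq).pow_left i)) hb)).symm.eq
  refine CfsgLib.Perm.ThreeSizes.Thick.comm_of_primary fun u hu v hv ⟨l, i, hl, hi⟩ ⟨l', j, hl', hj⟩ => ?_
  rcases eq_or_ne l q with rfl | hlq
  · rcases eq_or_ne l' l with rfl | hlq'
    · exact T.abel_n hx'p hx'n (CfsgLib.OddLocal.pPart_isPGroup l' (cent z))
        ((CfsgLib.OddLocal.pPart_le l' _).trans hle) u
        (CfsgLib.OddLocal.mem_pPart hnil hu (hi ▸ pow_orderOf_eq_one u)) v
        (CfsgLib.OddLocal.mem_pPart hnil hv (hj ▸ pow_orderOf_eq_one v))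
    · exact mem_cent.1 (hother v hv (coprime_of_ne hl' hl hlq' ⟨j, hj⟩) hu)
  · exact (mem_cent.1 (hother u hu (coprime_of_ne hl T.two.q_prime hlq ⟨i, hi⟩) hv)).symm

/-- An element of class size `n` commuting with a `q`-element of class size `n m` lies in `O_p`. -/
theorem mem_core_of_nm {z x : G} (hz : Pr z q) (hzi : (cent z).index = n * m) (hx : Pr x p)
    (hxn : (cent x).index = n) (hxz : x ∈ cent z) : x ∈ Cfsg.pCore p G := by
  haveI := Fact.mk T.two.p_prime
  haveI := Fact.mk T.two.q_prime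
  refine T.mem_core (pel_of_pr hx) (fun u hu => ?_) ?_
  · obtain ⟨P, hP⟩ := exists_sylow_le (hxn.symm ▸ T.two.hyp.not_dvd_n T.two.p_prime T.two.p_dvd :
      ¬ p ∣ (cent x).index)
    exact (mem_cent.1 (hP (CfsgLib.Solvable.pCore_le_sylow P hu))).symm
  · haveI := CfsgLib.Solvable.pCore_normal q G
    have hn : ∀ g : G, g ∈ normalizer (Cfsg.pCore q G : Set G) := fun g =>
      (normalizer_eq_top (Cfsg.pCore q G)).ge (mem_top g)
    refine axb (CfsgLib.Solvable.pCore_isPGroup q) (hn z) (pel_of_pr hz) (hn x)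
      (coprime_of_ne T.two.p_prime T.two.q_prime T.two.ne hx.2.2) (mem_cent.1 hxz).symm fun u _ hzu => ?_
    exact (mem_cent.1 (T.two.hyp.cent_le_of_max hzi (mem_cent.1 hxz).symm (hz.coprime hx T.two.ne.symm)
      (mem_cent.2 hzu.symm))).symm

end PQ

end CfsgLib.Perm.FourSizes
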