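import Cfsg.Agent.Lib.Perm.FourSizes.Main

/-!
# The primes of the elements of class sizes `n` and `m`
-/

set_option autoImplicit false
set_option linter.unusedSectionVars false

namespace CfsgLib.Perm.FourSizes

open Subgroup
open CfsgLib.InvChar.ConjRank (cent mem_cent self_mem_cent mem_cent_comm cent_le_pow)
open CfsgLib.Perm.ThreeSizes.Thick (Pr cent_mul_eq cent_inf_center cent_eq_top exists_pr)

universe u
variable {G : Type u} [Group G] [Finite G]

/-- A `r`-element centralising a Sylow `r`-subgroup lies in it. -/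
theorem mem_sylow_of_le_cent {r : ℕ} [Fact r.Prime] (R : Sylow r G) {u : G} (hu : ∃ i, u ^ r ^ i = 1)
    (hR : (R : Subgroup G) ≤ cent u) : u ∈ (R : Subgroup G) := by
  obtain ⟨i, hi⟩ := hu
  have hZ : IsPGroup r (zpowers u) := by
    obtain ⟨j, -, hj⟩ := (Nat.dvd_prime_pow Fact.out).1 (orderOf_dvd_of_pow_eq_one hi)
    exact IsPGroup.of_card (n := j) (by rw [Nat.card_zpowers, hj])
  have hn : (R : Subgroup G) ≤ normalizer (zpowers u : Set G) := fun y hy =>
    mem_normalizer_fintype fun z hz => by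
      obtain ⟨j, rfl⟩ := mem_zpowers_iff.1 hz
      rw [((mem_cent.1 (hR hy)).zpow_right j).eq, mul_inv_cancel_right]
      exact zpow_mem (mem_zpowers u) j
  exact (R.3 (hZ.to_sup_of_normal_left' R.isPGroup' hn) le_sup_right).le (mem_sup_left (mem_zpowers u))

theorem exists_sylow_mem {r : ℕ} [Fact r.Prime] {u : G} (hu : Pr u r) :
    ∃ R : Sylow r G, u ∈ (R : Subgroup G) := by
  obtain ⟨i, hi⟩ := hu.2.2
  obtain ⟨R, hR⟩ := (IsPGroup.of_card (n := i) (by rw [Nat.card_zpowers, hi]) : IsPGroup r (zpowers u)).exists_le_sylow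
  exact ⟨R, hR (mem_zpowers u)⟩

/-- An element of class size prime to `r` has a conjugate commuting with a given `r`-element. -/
theorem exists_conj_commute {r : ℕ} [Fact r.Prime] {g u : G} (h : ¬ r ∣ (cent g).index) (hu : Pr u r) :
    ∃ c : G, u ∈ cent (c * g * c⁻¹) := by
  obtain ⟨R, hR⟩ := exists_sylow_mem hu
  obtain ⟨c, hc⟩ := full_conj h R
  exact ⟨c, hc hR⟩

variable {n m : ℕ} (H : Hyp G n m)
include H

theorem Hyp.not_dvd_n {r : ℕ} (hr : r.Prime) (h : r ∣ m) : ¬ r ∣ n := fun h' =>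
  hr.not_dvd_one (H.cop.gcd_eq_one ▸ Nat.dvd_gcd h' h)

theorem Hyp.not_dvd_m {r : ℕ} (hr : r.Prime) (h : r ∣ n) : ¬ r ∣ m := H.symm.not_dvd_n hr h

theorem Hyp.dvd_nm {z : G} {r : ℕ} (hz : Pr z r) : r ∣ n * m := by
  by_contra hcon
  haveI := Fact.mk hz.1
  obtain ⟨R, hR⟩ := exists_sylow_mem hz
  have htop := CfsgLib.StructB.eq_top_of_conj_cover (centralizer ((R : Subgroup G) : Set G)) fun g =>
    CfsgLib.StructC.SylowClassCover.exists_conj_mem_cent R fun h => hcon (h.trans (H.dvd_max g))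
  exact hz.2.1 (mem_center_iff.2 fun g => (mem_centralizer_iff.1 (htop ▸ mem_top g) z hR).symm)

theorem Hyp.fac_nm {r : ℕ} (hr : ¬ r ∣ m) : (n * m).factorization r = n.factorization r := by
  rw [Nat.factorization_mul (by have := H.one_lt_n; omega) (by have := H.one_lt_m; omega),
    Finsupp.add_apply, Nat.factorization_eq_zero_of_not_dvd hr, add_zero]

/-- Centralisers of index `n` and `n m` have the same `r`-part for `r` prime to `m`. -/
theorem Hyp.fac_cent {r : ℕ} (hr : ¬ r ∣ m) {g : G}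
    (h : (cent g).index = n ∨ (cent g).index = n * m) :
    (Nat.card (cent g)).factorization r + n.factorization r = (Nat.card G).factorization r := by
  rw [fac_card_index (cent g) r]
  rcases h with e | e <;> rw [e]
  rw [H.fac_nm hr]

/-- The classes of commuting elements of coprime orders and class sizes multiples of `n` and of `m`. -/
theorem Hyp.index_mul {u v : G} (hu : n ∣ (cent u).index) (hv : m ∣ (cent v).index) (hc : Commute u v)
    (hco : (orderOf u).Coprime (orderOf v)) : (cent (u * v)).index = n * m := by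
  refine Nat.dvd_antisymm (H.dvd_max _) (H.cop.mul_dvd_of_dvd_of_dvd ?_ ?_)
  · exact hu.trans (index_dvd_of_le ((cent_mul_eq hc hco).le.trans inf_le_left))
  · exact hv.trans (index_dvd_of_le ((cent_mul_eq hc hco).le.trans inf_le_right))

omit H

/-- Every primary element of class size `n` has prime dividing `m`, and dually. -/
structure HB (G : Type u) [Group G] (n m : ℕ) : Prop where
  hyp : Hyp G n m
  bn : ∀ (x : G) (p : ℕ), Pr x p → (cent x).index = n → p ∣ m
  bm : ∀ (x : G) (p : ℕ), Pr x p → (cent x).index = m → p ∣ n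

theorem HB.symm (B : HB G n m) : HB G m n := ⟨B.hyp.symm, B.bm, B.bn⟩

theorem HB.ne (B : HB G n m) {x y : G} {p q : ℕ} (hx : Pr x p) (hxn : (cent x).index = n) (hy : Pr y q)
    (hym : (cent y).index = m) : p ≠ q := fun e =>
  B.hyp.not_dvd_n hx.1 (B.bn x p hx hxn) (e ▸ B.bm y q hy hym)

/-- If a centraliser of index `n` or `n m` has central `q`-part then so have those of index `m` or `n m`. -/
theorem HB.step (B : HB G n m) {x y : G} {p q : ℕ} (hx : Pr x p) (hxn : (cent x).index = n) (hy : Pr y q)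
    (hym : (cent y).index = m)
    (h : ∀ g : G, (cent g).index = n ∨ (cent g).index = n * m → ∀ s ∈ cent g, ¬ Pr s q)
    {g : G} (hg : (cent g).index = m ∨ (cent g).index = n * m) {t : G} (ht : t ∈ cent g) : ¬ Pr t p := by
  intro htp
  have hpm := B.bn x p hx hxn
  have hpn := B.hyp.not_dvd_n hx.1 hpm
  have hy' : ∀ v ∈ cent y, ¬ Pr v p := by
    intro v hv hvp
    have hi : (cent v).index = n ∨ (cent v).index = n * m := by
      rcases B.hyp.cases hvp.2.1 with e | e | e
      · exact Or.inl e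
      · exact absurd (B.bm v p hvp e) hpn
      · exact Or.inr e
    exact h v hi y (mem_cent_comm.1 hv) hy
  have h1 : (Nat.card (center G)).factorization p < (Nat.card (cent g)).factorization p :=
    fac_center_lt (cent_inf_center g) htp ht
  have h2 := B.hyp.symm.fac_cent hpn (g := g) (by rw [mul_comm m n]; exact hg)
  have h3 := B.hyp.symm.fac_cent hpn (g := y) (Or.inl hym)
  obtain ⟨v, hv, hvp⟩ := exists_pr hx.1 (K := cent y) (by omega)
  exact hy' v hv hvp

/-- Centralisers of index `n` or `n m` contain noncentral `q`-elements. -/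
theorem HB.exists_q (B : HB G n m) {y : G} {q : ℕ} (hy : Pr y q) (hym : (cent y).index = m) {g : G}
    (hg : (cent g).index = n ∨ (cent g).index = n * m) : ∃ s ∈ cent g, Pr s q := by
  have hqn := B.bm y q hy hym
  have hqm := B.hyp.not_dvd_m hy.1 hqn
  by_contra hcon
  have h : ∀ g' : G, (cent g').index = n ∨ (cent g').index = n * m → ∀ s ∈ cent g', ¬ Pr s q := by
    intro g' hg' s hs hsq
    have h1 := fac_center_lt (cent_inf_center g') hsq hs
    have h2 := B.hyp.fac_cent hqm hg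
    have h3 := B.hyp.fac_cent hqm hg'
    obtain ⟨v, hv⟩ := exists_pr hy.1 (K := cent g) (by omega)
    exact hcon ⟨v, hv⟩
  have hn' : ∀ (u : G) (l : ℕ), Pr u l → (cent u).index = n → ∀ g' : G,
      (cent g').index = m ∨ (cent g').index = n * m → ∀ t ∈ cent g', ¬ Pr t l :=
    fun u l hu hun g' hg' t ht => B.step hu hun hy hym h hg' ht
  obtain ⟨x, p, hx, hxn⟩ := B.hyp.exists_pr_n
  have hm' : ∀ (u : G) (l : ℕ), Pr u l → (cent u).index = m → ∀ g' : G,
      (cent g').index = n ∨ (cent g').index = n * m → ∀ t ∈ cent g', ¬ Pr t l := by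
    intro u l hu hum g' hg' t ht
    refine B.symm.step hu hum hx hxn (fun g'' hg'' => ?_) (by rw [mul_comm m n]; exact hg') ht
    exact hn' x p hx hxn g'' (by rwa [mul_comm m n] at hg'')
  obtain ⟨w, hw⟩ := B.hyp.exnm
  obtain ⟨k, l, hu⟩ := CfsgLib.Perm.ThreeSizes.Thick.exists_primary (B.hyp.not_central_max hw)
  have huw : w ^ k ∈ cent w := mem_cent.2 ((Commute.refl w).pow_left k)
  rcases B.hyp.cases hu.2.1 with e | e | e
  · exact hn' _ l hu e w (Or.inr hw) _ huw hu
  · exact hm' _ l hu e w (Or.inr hw) _ huw hu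
  · haveI := Fact.mk hu.1
    rcases (Nat.Prime.dvd_mul hu.1).1 (B.hyp.dvd_nm hu) with hl | hl
    · obtain ⟨c, hc⟩ := exists_conj_commute (hym.symm ▸ B.hyp.not_dvd_m hu.1 hl) hu
      exact h _ (Or.inr e) _ (mem_cent_comm.1 hc) (hy.conj c)
    · obtain ⟨c, hc⟩ := exists_conj_commute (hxn.symm ▸ B.hyp.not_dvd_n hu.1 hl) hu
      exact hn' x p hx hxn _ (Or.inr e) _ (mem_cent_comm.1 hc) (hx.conj c)

/-- An element of class size `m` commutes with one of class size `n` of the same prime as `x`. -/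
theorem HB.pair (B : HB G n m) {x y : G} {p q : ℕ} (hx : Pr x p) (hxn : (cent x).index = n) (hy : Pr y q)
    (hym : (cent y).index = m) : ∃ x' : G, Pr x' p ∧ (cent x').index = n ∧ Commute x' y := by
  haveI := Fact.mk hx.1
  have hpn := B.hyp.not_dvd_n hx.1 (B.bn x p hx hxn)
  obtain ⟨v, hv, hvp⟩ := B.symm.exists_q hx hxn (g := y) (Or.inl hym)
  rcases B.hyp.cases hvp.2.1 with e | e | e
  · exact ⟨v, hvp, e, mem_cent.1 hv⟩
  · exact absurd (B.bm v p hvp e) hpn
  · obtain ⟨c, hc⟩ := exists_conj_commute (hxn.symm ▸ hpn) hvp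
    refine ⟨_, hx.conj c, (index_cent_conj c x).trans hxn, ?_⟩
    exact mem_cent.1 (B.hyp.cent_le_of_max e (mem_cent.1 hv) (hvp.coprime hy (B.ne hx hxn hy hym))
      (mem_cent_comm.1 hc))

/-- All primary elements of class size `n` belong to one prime. -/
theorem HB.unique (B : HB G n m) {x w0 : G} {p r : ℕ} (hx : Pr x p) (hxn : (cent x).index = n)
    (hw0 : Pr w0 r) (hw0n : (cent w0).index = n) : p = r := by
  by_contra hne
  haveI := Fact.mk hw0.1
  haveI := Fact.mk hx.1
  have H := B.hyp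
  have hrm := B.bn w0 r hw0 hw0n
  have hrn := H.not_dvd_n hw0.1 hrm
  -- the same centraliser
  obtain ⟨R, hR⟩ := exists_sylow_le (hxn.symm ▸ hrn : ¬ r ∣ (cent x).index)
  obtain ⟨c, hc⟩ := full_conj (hw0n.symm ▸ hrn) R
  have hw := hw0.conj c
  have hwn := (index_cent_conj c w0).trans hw0n
  generalize c * w0 * c⁻¹ = w at hw hwn hc
  have hwx : Commute x w := (mem_cent.1 (hR (mem_sylow_of_le_cent R (pel_of_pr hw) hc))).symm
  have hDw : cent x = cent w := by
    have h1 := (H.rel_cases hxn hwx (hx.coprime hw hne)).resolve_right fun e =>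
      not_dvd_relIndex R hc hR (e.symm ▸ hrm)
    exact H.eq_of_n hxn hw.2.1 (relIndex_eq_one.1 h1)
  obtain ⟨y0, q, hy0, hy0m⟩ := H.symm.exists_pr_n
  obtain ⟨y, hy, hym, hyx⟩ := B.symm.pair hy0 hy0m hx hxn
  have hqp := B.ne hx hxn hy hym
  have hqr := B.ne hw0 hw0n hy hym
  -- one class size in the centraliser
  have hprim : ∀ (u : G) (l : ℕ), Pr u l → u ∈ cent x →
      (cent u).relIndex (cent x) = 1 ∨ (cent u).relIndex (cent x) = m := by
    intro u l hu hux
    rcases eq_or_ne l p with rfl | hlp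
    · rw [hDw] at hux ⊢
      exact H.rel_cases hwn (mem_cent.1 hux).symm (hw.coprime hu (Ne.symm hne))
    · exact H.rel_cases hxn (mem_cent.1 hux).symm (hx.coprime hu hlp.symm)
  have hmax : ∀ (u : G) (l : ℕ), Pr u l → u ∈ cent x → (cent u).relIndex (cent x) = m →
      ∀ (δ : G) (d : ℕ), Pr δ d → d ≠ l → cent δ = cent x →
        cent (δ * u) = cent x ⊓ cent u ∧ (cent (δ * u)).index = n * m := by
    intro u l hu hux e δ d hδ hdl hδx
    have hc' : Commute δ u := (mem_cent.1 (hδx.ge hux)).symm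
    have e1 : cent (δ * u) = cent x ⊓ cent u := by rw [cent_mul_eq hc' (hδ.coprime hu hdl), hδx]
    refine ⟨e1, ?_⟩
    have h2 := relIndex_mul_index (inf_le_left : cent x ⊓ cent u ≤ cent x)
    rw [inf_relIndex_left, e, hxn, ← e1] at h2
    rw [← h2, mul_comm]
  -- the centraliser in `cent x` of a primary element centralises the others
  have hinf : ∀ (u : G) (l : ℕ), Pr u l → u ∈ cent x → (cent u).relIndex (cent x) = m →
      ∀ (u' : G) (l' : ℕ), Pr u' l' → u' ∈ cent x → u' ∈ cent u → l' ≠ l →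
        cent x ⊓ cent u ≤ cent u' := by
    intro u l hu hux e u' l' hu' hux' huu' hll
    have key : ∀ (δ v : G) (d k : ℕ), Pr δ d → Pr v k → d ≠ k → cent (δ * v) = cent x ⊓ cent u →
        (cent (δ * v)).index = n * m → Commute δ v → d ≠ l' → k ≠ l' → cent x ⊓ cent u ≤ cent u' := by
      intro δ v d k hδ hv hdk e1 e2 hc' hdl hkl
      rw [← e1]
      refine H.cent_le_of_max e2 (mem_cent.1 (show u' ∈ cent (δ * v) from e1 ▸ ⟨hux', huu'⟩)).symm ?_
      rw [hc'.orderOf_mul_eq_mul_orderOf_of_coprime (hδ.coprime hv hdk)]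
      exact (hδ.coprime hu' hdl).mul_left (hv.coprime hu' hkl)
    by_cases h1 : p ≠ l ∧ p ≠ l'
    · obtain ⟨e1, e2⟩ := hmax u l hu hux e x p hx h1.1 rfl
      exact key x u p l hx hu h1.1 e1 e2 (mem_cent.1 hux).symm h1.2 hll.symm
    by_cases h2 : r ≠ l ∧ r ≠ l'
    · obtain ⟨e1, e2⟩ := hmax u l hu hux e w r hw h2.1 hDw.symm
      exact key w u r l hw hu h2.1 e1 e2 (mem_cent.1 (hDw ▸ hux)).symm h2.2 hll.symm
    -- the remaining case: pass through a `q`-element
    have hlq : l ≠ q ∧ l' ≠ q := by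
      constructor <;> rintro rfl <;> push Not at h1 h2 <;> omega
    obtain ⟨δ, d, hδ, hdl, hδx⟩ : ∃ (δ : G) (d : ℕ), Pr δ d ∧ d ≠ l ∧ cent δ = cent x := by
      by_cases hpl : p = l
      · exact ⟨w, r, hw, fun e => hne (hpl.trans e.symm), hDw.symm⟩
      · exact ⟨x, p, hx, hpl, rfl⟩
    obtain ⟨e1, e2⟩ := hmax u l hu hux e δ d hδ hdl hδx
    obtain ⟨s, hs, hsq⟩ := B.exists_q hy hym (Or.inr e2)
    have hdq : d ≠ q := fun e' => by
      subst e'
      exact H.not_dvd_n hy.1 (B.bn δ d hδ (by rw [hδx, hxn])) (B.bm y d hy hym)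
    have hle : cent (δ * u) ≤ cent s := H.cent_le_of_max e2 (mem_cent.1 hs).symm (by
      rw [(mem_cent.1 (hδx.ge hux)).symm.orderOf_mul_eq_mul_orderOf_of_coprime (hδ.coprime hu hdl)]
      exact (hδ.coprime hsq hdq).mul_left (hu.coprime hsq hlq.1))
    have hsx : s ∈ cent x := (e1 ▸ hs : s ∈ cent x ⊓ cent u).1
    have hse : (cent s).relIndex (cent x) = m := (hprim s q hsq hsx).resolve_left fun h =>
      H.not_dvd_n hsq.1 (B.bn s q hsq (by rw [← H.eq_of_n hxn hsq.2.1 (relIndex_eq_one.1 h), hxn]))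
        (B.bm y q hy hym)
    obtain ⟨ε, k, hε, hkl, hεx, hkq⟩ : ∃ (ε : G) (k : ℕ), Pr ε k ∧ k ≠ l' ∧ cent ε = cent x ∧ k ≠ q := by
      by_cases hpl : p = l'
      · exact ⟨w, r, hw, fun e => hne (hpl.trans e.symm), hDw.symm, hqr⟩
      · exact ⟨x, p, hx, hpl, rfl, hqp⟩
    obtain ⟨f1, f2⟩ := hmax s q hsq hsx hse ε k hε hkq hεx
    have heq : cent (δ * u) = cent (ε * s) :=
      H.eq_max f2 (f1 ▸ le_inf (e1.le.trans inf_le_left) hle)
    exact key ε s k q hε hsq hkq (heq.symm.trans e1) f2 (mem_cent.1 (hεx.ge hsx)).symm hkl hlq.2.symm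
  have hrel : ∀ v ∈ cent x, (cent v).relIndex (cent x) = 1 ∨ (cent v).relIndex (cent x) = m := by
    intro v hv
    by_cases hall : ∀ k l : ℕ, Pr (v ^ k) l → cent x ≤ cent (v ^ k)
    · refine Or.inl (relIndex_eq_one.2 fun d hd => mem_cent_comm.1 (CfsgLib.StructC.ClassCoprime.mem_of_primary
        fun k s hs h => mem_cent_comm.1 ?_))
      by_cases hk : v ^ k ∈ center G
      · exact (cent_eq_top.2 hk).ge (mem_top d)
      · exact hall k s ⟨hs, hk, h⟩ hd
    push Not at hall
    obtain ⟨k, l, hu0, hnu0⟩ := hall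
    haveI := Fact.mk hu0.1
    obtain ⟨v', u, i, hvu, hv', huz, hv'l, hul⟩ := CfsgLib.Perm.CountingComplement.exists_parts l v
    have hlpart := CfsgLib.Perm.ThreeSizes.Thick.pow_mem_part hvu hv' huz hv'l hul
    have hku : cent u ≤ cent (v ^ k) :=
      CfsgLib.Perm.ThreeSizes.Thick.cent_zpowers (hlpart k hu0.2.2)
    have hu : Pr u l := pr_of_pel hu0.1 hul
      (CfsgLib.Perm.ThreeSizes.Thick.not_central_of_le hku hu0.2.1)
    have hux : u ∈ cent x := (zpowers_le.2 hv) huz
    have he : (cent u).relIndex (cent x) = m :=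
      (hprim u l hu hux).resolve_left fun h => hnu0 ((relIndex_eq_one.1 h).trans hku)
    right
    rw [← he]
    have hle : cent x ⊓ cent u = cent x ⊓ cent v := by
      refine le_antisymm (le_inf inf_le_left fun d hd => mem_cent_comm.1
        (CfsgLib.StructC.ClassCoprime.mem_of_primary fun j l' hl' h => mem_cent_comm.1 ?_))
        (inf_le_inf_left _ (CfsgLib.Perm.ThreeSizes.Thick.cent_zpowers huz))
      by_cases hj : v ^ j ∈ center G
      · exact (cent_eq_top.2 hj).ge (mem_top d)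
      rcases eq_or_ne l' l with rfl | hll
      · exact CfsgLib.Perm.ThreeSizes.Thick.cent_zpowers (hlpart j h) hd.2
      · exact hinf u l hu hux he _ l' ⟨hl', hj, h⟩ ((cent x).pow_mem hv j)
          (CfsgLib.Perm.ThreeSizes.Thick.cent_zpowers huz (mem_cent.2 ((Commute.refl v).pow_left j))) hll hd
    rw [← inf_relIndex_left, ← hle, inf_relIndex_left]
  rcases one_size H.one_lt_m hrel with hab | ⟨l, b, hl, -, hm, -⟩
  · have h1 : cent x ≤ cent y := fun d hd => mem_cent.2 (hab d hd y (mem_cent.2 hyx))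
    have h2 := index_dvd_of_le h1
    rw [hxn, hym] at h2
    exact H.symm.not_dvd_cross.1 h2
  · exact hne (((Nat.prime_dvd_prime_iff_eq hx.1 hl).1 (hx.1.dvd_of_dvd_pow (hm ▸ B.bn x p hx hxn))).trans
      ((Nat.prime_dvd_prime_iff_eq hw0.1 hl).1 (hw0.1.dvd_of_dvd_pow (hm ▸ hrm))).symm)

/-- The two primes `p` and `q` of the elements of class sizes `n` and `m`. -/
structure Two (G : Type u) [Group G] (n m p q : ℕ) : Prop where
  hb : HB G n m
  exn : ∃ x : G, Pr x p ∧ (cent x).index = n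
  exm : ∃ y : G, Pr y q ∧ (cent y).index = m
  un : ∀ (x : G) (l : ℕ), Pr x l → (cent x).index = n → l = p
  um : ∀ (y : G) (l : ℕ), Pr y l → (cent y).index = m → l = q

theorem HB.exists_two (B : HB G n m) : ∃ p q, Two G n m p q := by
  obtain ⟨x, p, hx, hxn⟩ := B.hyp.exists_pr_n
  obtain ⟨y, q, hy, hym⟩ := B.hyp.symm.exists_pr_n
  exact ⟨p, q, B, ⟨x, hx, hxn⟩, ⟨y, hy, hym⟩, fun u l hu hun => B.unique hu hun hx hxn,
    fun u l hu hum => B.symm.unique hu hum hy hym⟩

namespace Two

variable {p q : ℕ}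

theorem symm (T : Two G n m p q) : Two G m n q p := ⟨T.hb.symm, T.exm, T.exn, T.um, T.un⟩

theorem hyp (T : Two G n m p q) : Hyp G n m := T.hb.hyp

theorem p_prime (T : Two G n m p q) : p.Prime := let ⟨_, h, _⟩ := T.exn; h.1

theorem q_prime (T : Two G n m p q) : q.Prime := T.symm.p_prime

theorem p_dvd (T : Two G n m p q) : p ∣ m := let ⟨x, h, h'⟩ := T.exn; T.hb.bn x p h h'

theorem q_dvd (T : Two G n m p q) : q ∣ n := T.symm.p_dvd

theorem ne (T : Two G n m p q) : p ≠ q := fun e =>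
  T.hyp.not_dvd_n T.p_prime T.p_dvd (e ▸ T.q_dvd)

theorem exists_q (T : Two G n m p q) {g : G} (hg : (cent g).index = n ∨ (cent g).index = n * m) :
    ∃ s ∈ cent g, Pr s q := by
  obtain ⟨y, hy, hym⟩ := T.exm
  exact T.hb.exists_q hy hym hg

/-- A noncentral element of another prime has class size `n m`. -/
theorem index_other (T : Two G n m p q) {u : G} {l : ℕ} (hu : Pr u l) (hp : l ≠ p) (hq : l ≠ q) :
    (cent u).index = n * m := by
  rcases T.hyp.cases hu.2.1 with e | e | e
  · exact absurd (T.un u l hu e) hp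
  · exact absurd (T.um u l hu e) hq
  · exact e

theorem dvd_index (T : Two G n m p q) {u : G} {l : ℕ} (hu : Pr u l) (hp : l ≠ p) : m ∣ (cent u).index := by
  rcases T.hyp.cases hu.2.1 with e | e | e
  · exact absurd (T.un u l hu e) hp
  · rw [e]
  · exact e ▸ dvd_mul_left m n

end Two

end CfsgLib.Perm.FourSizes
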