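import Cfsg.Agent.Lib.Perm.FourSizes.Basic
import Cfsg.Agent.Lib.Perm.CountingComplement
import Cfsg.Agent.Lib.OddLocal.CNBasic
import Cfsg.Agent.S4134
import Cfsg.Agent.Lib.Coprime.Action

/-!
# Splitting off a prime, and the `A × B` lemma
-/

set_option autoImplicit false
set_option linter.unusedSectionVars false

namespace CfsgLib.Perm.FourSizes

open Subgroup
open CfsgLib.InvChar.ConjRank (cent mem_cent self_mem_cent mem_cent_comm cent_le_pow)

universe u
variable {G : Type u} [Group G] [Finite G]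

/-- If no element of order prime to `p` has class size divisible by `p`, the group splits at `p`. -/
theorem split_univ {K : Type u} [Group K] [Finite K] {p : ℕ} [Fact p.Prime]
    (h : ∀ w : K, (orderOf w).Coprime p → ¬ p ∣ (cent w).index) :
    ∃ H : Subgroup K, (∀ w, w ∈ H ↔ (orderOf w).Coprime p) ∧
      ∀ u w : K, (∃ i, u ^ p ^ i = 1) → w ∈ H → Commute u w := by
  obtain ⟨P⟩ := (inferInstance : Nonempty (Sylow p K))
  set C := centralizer ((P : Subgroup K) : Set K) with hC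
  have hCN : C ≤ normalizer ((P : Subgroup K) : Set K) := centralizer_le_normalizer _
  have hcov : ∀ g : K, ∃ x : K, x * g * x⁻¹ ∈ (P : Subgroup K) ⊔ C := by
    intro g
    obtain ⟨a, b, k, hg, ha, hb, hao, hbk⟩ := CfsgLib.Perm.CountingComplement.exists_parts p g
    obtain ⟨c, hc⟩ := CfsgLib.StructC.SylowClassCover.exists_conj_mem_cent P (h a hao)
    have hab : Commute a b := by
      obtain ⟨i, rfl⟩ := mem_zpowers_iff.1 ha
      obtain ⟨j, rfl⟩ := mem_zpowers_iff.1 hb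
      exact (Commute.refl g).zpow_zpow i j
    have hu : c * b * c⁻¹ ∈ cent (c * a * c⁻¹) := mem_cent.2 (by simpa using hab.symm.map (MulAut.conj c))
    have hP : (P : Subgroup K) ≤ cent (c * a * c⁻¹) := fun y hy => mem_cent.2 (mem_centralizer_iff.1 hc y hy)
    have hup : IsPGroup p (zpowers (⟨c * b * c⁻¹, hu⟩ : cent (c * a * c⁻¹))) := by
      have h1 : orderOf (⟨c * b * c⁻¹, hu⟩ : cent (c * a * c⁻¹)) ∣ p ^ k := by
        refine orderOf_dvd_of_pow_eq_one (Subtype.ext ?_)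
        rw [SubmonoidClass.coe_pow]
        show (c * b * c⁻¹) ^ p ^ k = 1
        rw [conj_pow, hbk, mul_one, mul_inv_cancel]
      obtain ⟨j, -, hj⟩ := (Nat.dvd_prime_pow Fact.out).1 h1
      exact IsPGroup.of_card (n := j) (by rw [Nat.card_zpowers, hj])
    obtain ⟨S, hS⟩ := hup.exists_le_sylow
    obtain ⟨d, hd⟩ := MulAction.exists_smul_eq (cent (c * a * c⁻¹)) S (P.subtype hP)
    have hmem : (d : K) * (c * b * c⁻¹) * (d : K)⁻¹ ∈ (P : Subgroup K) := by
      have h2 : d * (⟨c * b * c⁻¹, hu⟩ : cent (c * a * c⁻¹)) * d⁻¹ ∈ ((P.subtype hP : Sylow p _) : Subgroup _) := by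
        rw [← hd, Sylow.coe_subgroup_smul]
        exact ⟨_, hS (mem_zpowers _), rfl⟩
      exact h2
    refine ⟨(d : K) * c, ?_⟩
    have hd1 : (d : K) * (c * a * c⁻¹) = c * a * c⁻¹ * d := (mem_cent.1 d.2).eq
    rw [hg, show (d : K) * c * (a * b) * ((d : K) * c)⁻¹ =
      (d : K) * (c * a * c⁻¹) * (d : K)⁻¹ * ((d : K) * (c * b * c⁻¹) * (d : K)⁻¹) by group, hd1,
      mul_inv_cancel_right]
    exact mul_mem (mem_sup_right hc) (mem_sup_left hmem)
  have htop := CfsgLib.StructB.eq_top_of_conj_cover _ hcov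
  have hPn : (P : Subgroup K).Normal :=
    normalizer_eq_top_iff.1 (eq_top_iff.2 (htop ▸ sup_le le_normalizer hCN))
  have hCn : C.Normal := by rw [hC]; infer_instance
  have hcomm : ∀ u w : K, (∃ i, u ^ p ^ i = 1) → (orderOf w).Coprime p → Commute u w := by
    intro u w ⟨i, hi⟩ hw
    have hwC : w ∈ C := by
      rw [← QuotientGroup.eq_one_iff]
      obtain ⟨y, hy, c, hc, hyc⟩ := mem_sup_of_normal_right.1 (htop ▸ mem_top w : w ∈ (P : Subgroup K) ⊔ C)
      obtain ⟨j, hj⟩ := P.isPGroup' ⟨y, hy⟩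
      refine eq_one_of_pel (p := p) (i := j) ?_ (Nat.Coprime.coprime_dvd_left
        (orderOf_map_dvd (QuotientGroup.mk' C) w) hw)
      rw [← hyc, QuotientGroup.mk_mul, (QuotientGroup.eq_one_iff c).2 hc, mul_one, ← QuotientGroup.mk_pow,
        show y ^ p ^ j = 1 from congrArg Subtype.val hj, QuotientGroup.mk_one]
    have huP : u ∈ (P : Subgroup K) := by
      rw [← QuotientGroup.eq_one_iff]
      refine eq_one_of_pel (p := p) (i := i) (by rw [← QuotientGroup.mk_pow, hi, QuotientGroup.mk_one]) ?_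
      exact Nat.Coprime.coprime_dvd_left (orderOf_dvd_natCard _)
        ((Nat.Prime.coprime_iff_not_dvd Fact.out).2
          (by rw [← index_eq_card]; exact P.not_dvd_index)).symm
    exact mem_centralizer_iff.1 hwC u huP
  obtain ⟨H, hH⟩ := exists_right_complement'_of_coprime (N := (P : Subgroup K)) P.card_coprime_index
  have hHc : (Nat.card H).Coprime p := by
    rw [← hH.symm.index_eq_card]
    exact ((Nat.Prime.coprime_iff_not_dvd Fact.out).2 P.not_dvd_index).symm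
  have hord : ∀ {w}, w ∈ H → (orderOf w).Coprime p := fun hw =>
    Nat.Coprime.coprime_dvd_left (H.orderOf_dvd_natCard hw) hHc
  refine ⟨H, fun w => ⟨hord, fun hw => ?_⟩, fun u w hu hw => hcomm u w hu (hord hw)⟩
  obtain ⟨⟨y, t⟩, hyt⟩ := hH.2 w
  obtain ⟨i, hi⟩ := P.isPGroup' y
  have hi' : (y : K) ^ p ^ i = 1 := congrArg Subtype.val hi
  have hyw : Commute (y : K) w := hcomm _ _ ⟨i, hi'⟩ hw
  have h1 : (y : K) = 1 := by
    refine eq_one_of_pel (p := p) (i := i) hi' ?_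
    have hyt' : Commute (y : K) t := hcomm _ _ ⟨i, hi'⟩ (hord t.2)
    have h2 : (y : K) ^ (orderOf w * orderOf (t : K)) = 1 := by
      have h3 : (y : K) = w * (t : K)⁻¹ := by rw [← hyt]; simp
      have h4 : Commute w ((t : K)⁻¹) := by
        rw [← hyt]; exact (hyt'.mul_left (Commute.refl _)).inv_right
      rw [h3, h4.mul_pow, pow_mul, pow_orderOf_eq_one, one_pow, one_mul, inv_pow, mul_comm, pow_mul,
        pow_orderOf_eq_one, one_pow, inv_one]
    exact Nat.Coprime.coprime_dvd_left (orderOf_dvd_of_pow_eq_one h2) (hw.mul_left (hord t.2))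
  rw [← hyt]
  simp [h1]

theorem relIndex_eq_of_mul {C H K : Subgroup G} (hle : H ≤ K)
    (h : ∀ k ∈ K, ∃ a ∈ H, ∃ c ∈ C, k = a * c) : C.relIndex H = C.relIndex K := by
  refine Nat.card_congr (Equiv.ofBijective _
    ⟨(quotientSubgroupOfEmbeddingOfLE C hle).injective, fun q => ?_⟩)
  obtain ⟨⟨k, hk⟩, rfl⟩ := QuotientGroup.mk_surjective q
  obtain ⟨a, ha, c, hc, hkac⟩ := h k hk
  refine ⟨QuotientGroup.mk ⟨a, ha⟩, ?_⟩
  show QuotientGroup.mk (⟨a, hle ha⟩ : K) = QuotientGroup.mk ⟨k, hk⟩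
  rw [QuotientGroup.eq, mem_subgroupOf]
  show a⁻¹ * k ∈ C
  rw [hkac, inv_mul_cancel_left]
  exact hc

/-- `K` splits at `p`: its elements of order prime to `p` form a subgroup centralising all its `p`-elements. -/
def Splits (K H : Subgroup G) (p : ℕ) : Prop :=
  (∀ w, w ∈ H ↔ w ∈ K ∧ (orderOf w).Coprime p) ∧ ∀ u ∈ K, ∀ w ∈ H, (∃ i, u ^ p ^ i = 1) → Commute u w

theorem split {K : Subgroup G} {p : ℕ} [Fact p.Prime]
    (h : ∀ w ∈ K, (orderOf w).Coprime p → ¬ p ∣ (cent w).relIndex K) : ∃ H : Subgroup G, Splits K H p := by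
  obtain ⟨H, h1, h2⟩ := split_univ (K := K) (p := p) fun w hw => by
    have e : cent w = (cent (w : G)).subgroupOf K := by
      ext y
      rw [mem_cent, mem_subgroupOf, mem_cent]
      exact ⟨fun hy => congrArg Subtype.val hy, fun hy => Subtype.ext hy⟩
    rw [e]
    exact h w w.2 (by rwa [orderOf_coe])
  refine ⟨H.map K.subtype, fun w => ⟨?_, fun hw => ⟨⟨w, hw.1⟩, (h1 _).2 (by rw [orderOf_mk]; exact hw.2), rfl⟩⟩,
    ?_⟩
  · rintro ⟨y, hy, rfl⟩
    exact ⟨y.2, by have := (h1 y).1 hy; rwa [← orderOf_coe] at this⟩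
  · rintro u hu _ ⟨y, hy, rfl⟩ ⟨i, hi⟩
    exact (h2 ⟨u, hu⟩ y ⟨i, Subtype.ext (by rw [SubmonoidClass.coe_pow]; exact hi)⟩ hy).map K.subtype

namespace Splits

variable {K H : Subgroup G} {p : ℕ}

theorem le (hs : Splits K H p) : H ≤ K := fun w hw => ((hs.1 w).1 hw).1

theorem exists_parts [Fact p.Prime] (hs : Splits K H p) {k : G} (hk : k ∈ K) :
    ∃ a ∈ H, ∃ u ∈ K, (∃ i, u ^ p ^ i = 1) ∧ k = a * u := by
  obtain ⟨a, b, i, hab, ha, hb, hao, hbi⟩ := CfsgLib.Perm.CountingComplement.exists_parts p k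
  exact ⟨a, (hs.1 a).2 ⟨(zpowers_le.2 hk) ha, hao⟩, b, (zpowers_le.2 hk) hb, ⟨i, hbi⟩, hab⟩

theorem relIndex_eq [Fact p.Prime] (hs : Splits K H p) {w : G} (hw : w ∈ H) :
    (cent w).relIndex H = (cent w).relIndex K :=
  relIndex_eq_of_mul hs.le fun k hk => by
    obtain ⟨a, ha, u, hu, hup, hk'⟩ := hs.exists_parts hk
    exact ⟨a, ha, u, mem_cent.2 (hs.2 u hu w hw hup), hk'⟩

/-- Such a group is nilpotent if the complement is. -/
theorem isNilpotent (hs : Splits K H p)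
    (hH : ∀ q r : ℕ, q.Prime → r.Prime → q ≠ r → ∀ a ∈ H, ∀ b ∈ H, ∀ i j : ℕ,
      a ^ q ^ i = 1 → b ^ r ^ j = 1 → Commute a b) (hp : p.Prime) : Group.IsNilpotent K := by
  refine CfsgLib.OddLocal.isNilpotent_of_commute K fun q r hq hr hne a ha b hb i j hi hj => ?_
  have hmem : ∀ {x : G} {s k : ℕ}, s.Prime → s ≠ p → x ∈ K → x ^ s ^ k = 1 → x ∈ H := fun {x s k} hs' hsp hx hxk =>
    (hs.1 x).2 ⟨hx, Nat.Coprime.coprime_dvd_left (orderOf_dvd_of_pow_eq_one hxk)
      (((Nat.coprime_primes hs' hp).2 hsp).pow_left k)⟩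
  rcases eq_or_ne q p with rfl | hqp
  · exact (hs.2 a ha b (hmem hr hne.symm hb hj) ⟨i, hi⟩).eq
  rcases eq_or_ne r p with rfl | hrp
  · exact (hs.2 b hb a (hmem hq hqp ha hi) ⟨j, hj⟩).symm.eq
  exact (hH q r hq hr hne a (hmem hq hqp ha hi) b (hmem hr hrp hb hj) i j hi hj).eq

end Splits

/-- A subgroup with class sizes `1` and `n` is abelian, or `n` is a prime power and the rest is central. -/
theorem one_size {H : Subgroup G} {n : ℕ} (hn : 1 < n)
    (h : ∀ w ∈ H, (cent w).relIndex H = 1 ∨ (cent w).relIndex H = n) :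
    (∀ u ∈ H, ∀ v ∈ H, Commute u v) ∨ ∃ p a, p.Prime ∧ 0 < a ∧ n = p ^ a ∧
      ∀ u ∈ H, (orderOf u).Coprime p → ∀ v ∈ H, Commute u v := by
  have e : ∀ w : H, (centralizer ({w} : Set H)).index = (cent (w : G)).relIndex H := fun w => by
    refine congrArg Subgroup.index (Subgroup.ext fun y => ?_)
    show y ∈ cent w ↔ y ∈ (cent (w : G)).subgroupOf H
    rw [mem_cent, mem_subgroupOf, mem_cent]
    exact ⟨fun hy => congrArg Subtype.val hy, fun hy => Subtype.ext hy⟩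
  by_cases hex : ∃ w : H, (centralizer ({w} : Set H)).index = n
  · obtain ⟨p, hp, a, hna, hP⟩ := Cfsg.Agent.S4134.result (G := H) n hn (fun w => by rw [e]; exact h w w.2) hex
    refine Or.inr ⟨p, a, hp.out, Nat.pos_of_ne_zero fun ha => by rw [ha, pow_zero] at hna; omega, hna, ?_⟩
    obtain ⟨P⟩ := (inferInstance : Nonempty (Sylow p H))
    obtain ⟨hPn, ⟨N, hNn, hNP, hNc, hc⟩, -⟩ := hP P
    intro u hu hco v hv
    obtain ⟨⟨t, y⟩, hty⟩ := hNP.2 ⟨u, hu⟩
    obtain ⟨i, hi⟩ := P.isPGroup' y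
    have hyu : (⟨u, hu⟩ : H) ∈ N := by
      rw [← QuotientGroup.eq_one_iff]
      refine eq_one_of_pel (p := p) (i := i) ?_ (Nat.Coprime.coprime_dvd_left
        ((orderOf_map_dvd (QuotientGroup.mk' N) _).trans (dvd_of_eq (orderOf_mk u hu))) hco)
      rw [← hty, QuotientGroup.mk_mul, (QuotientGroup.eq_one_iff (t : H)).2 t.2, one_mul, ← QuotientGroup.mk_pow,
        show ((y : H)) ^ p ^ i = 1 from congrArg Subtype.val hi, QuotientGroup.mk_one]
    obtain ⟨⟨s, z⟩, hsz⟩ := hNP.2 ⟨v, hv⟩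
    have hcm : Commute (⟨u, hu⟩ : H) ((s : H) * z) :=
      (show Commute (⟨u, hu⟩ : H) s from congrArg Subtype.val (hNc.is_comm.comm ⟨_, hyu⟩ s)).mul_right
        (hc _ hyu z z.2)
    rw [show (s : H) * z = ⟨v, hv⟩ from hsz] at hcm
    exact hcm.map H.subtype
  · refine Or.inl fun u hu v hv => mem_cent.1 ?_
    have h1 := (h v hv).resolve_right fun hh => hex ⟨⟨v, hv⟩, (e _).trans hh⟩
    exact relIndex_eq_one.1 h1 hu

theorem one_size_commute {H : Subgroup G} {n : ℕ} (hn : 1 < n)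
    (h : ∀ w ∈ H, (cent w).relIndex H = 1 ∨ (cent w).relIndex H = n) {q r : ℕ} (hq : q.Prime) (hr : r.Prime)
    (hne : q ≠ r) {a b : G} (ha : a ∈ H) (hb : b ∈ H) {i j : ℕ} (hi : a ^ q ^ i = 1) (hj : b ^ r ^ j = 1) :
    Commute a b := by
  rcases one_size hn h with hab | ⟨p, e, hp, -, -, hc⟩
  · exact hab a ha b hb
  rcases eq_or_ne q p with rfl | hqp
  · exact (hc b hb (Nat.Coprime.coprime_dvd_left (orderOf_dvd_of_pow_eq_one hj)
      (((Nat.coprime_primes hr hp).2 hne.symm).pow_left j)) a ha).symm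
  · exact hc a ha (Nat.Coprime.coprime_dvd_left (orderOf_dvd_of_pow_eq_one hi)
      (((Nat.coprime_primes hq hp).2 hqp).pow_left i)) b hb

/-- The `A × B` lemma for two commuting elements. -/
theorem axb {p : ℕ} [Fact p.Prime] {P : Subgroup G} (hP : IsPGroup p P) {x v : G}
    (hx : x ∈ normalizer (P : Set G)) (hxp : ∃ i, x ^ p ^ i = 1) (hv : v ∈ normalizer (P : Set G))
    (hvp : (orderOf v).Coprime p) (hxv : Commute x v) (hfix : ∀ u ∈ P, Commute x u → Commute v u) :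
    ∀ u ∈ P, Commute v u := by
  set Q := P ⊓ cent v with hQ
  suffices hle : P ≤ Q from fun u hu => (mem_cent.1 (hle hu).2).symm
  by_contra hnle
  obtain ⟨i, hi⟩ := hxp
  have hxZ : IsPGroup p (zpowers x) := by
    obtain ⟨j, -, hj⟩ := (Nat.dvd_prime_pow Fact.out).1 (orderOf_dvd_of_pow_eq_one hi)
    exact IsPGroup.of_card (n := j) (by rw [Nat.card_zpowers, hj])
  have hL : IsPGroup p (P ⊔ zpowers x : Subgroup G) :=
    hP.to_sup_of_normal_left' hxZ (zpowers_le.2 hx)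
  have hxQ : zpowers x ≤ normalizer (Q : Set G) := zpowers_le.2 (mem_normalizer_fintype fun u hu => by
    refine ⟨(mem_normalizer_iff.1 hx u).1 hu.1, mem_cent.2 ?_⟩
    exact ((hxv.mul_left (mem_cent.1 hu.2)).mul_left hxv.inv_left))
  set R := Q ⊔ zpowers x with hR
  have hRP : ∀ e ∈ R, e ∈ P → e ∈ Q := by
    intro e he heP
    obtain ⟨a, ha, b, hb, rfl⟩ := (CfsgLib.Coprime.mem_sup_of_le_normalizer hxQ).1 he
    refine ⟨heP, ?_⟩
    have hbP : b ∈ P := by
      have h1 := P.mul_mem (P.inv_mem ha.1) heP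
      rwa [inv_mul_cancel_left] at h1
    obtain ⟨j, rfl⟩ := mem_zpowers_iff.1 hb
    exact (cent v).mul_mem ha.2 (mem_cent.2 (hfix _ hbP ((Commute.refl x).zpow_right j)).symm)
  have hRL : R ≤ P ⊔ zpowers x := sup_le_sup_right inf_le_left _
  have hlt : R.subgroupOf (P ⊔ zpowers x) < ⊤ := lt_top_iff_ne_top.2 fun e => hnle fun u hu =>
    hRP u (subgroupOf_eq_top.1 e (mem_sup_left hu)) hu
  have := hL.isNilpotent
  obtain ⟨⟨g, hg⟩, hgN, hgR⟩ := SetLike.exists_of_lt (Group.normalizerCondition_of_isNilpotent _ hlt)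
  obtain ⟨w, hw, b, hb, hgwb⟩ := (CfsgLib.Coprime.mem_sup_of_le_normalizer (zpowers_le.2 hx)).1 hg
  have hbR : b ∈ R := mem_sup_right hb
  have hwR : w ∉ R := fun h => hgR (mem_subgroupOf.2 (show g ∈ R from hgwb ▸ mul_mem h hbR))
  have hxR : x ∈ R := mem_sup_right (mem_zpowers x)
  have hwN : w * x⁻¹ * w⁻¹ ∈ R := by
    have h1 := (mem_normalizer_iff.1 hgN ⟨x⁻¹, (inv_mem (hRL hxR))⟩).1 (mem_subgroupOf.2 (inv_mem hxR))
    obtain ⟨j, rfl⟩ := mem_zpowers_iff.1 hb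
    have h2 : g * x⁻¹ * g⁻¹ ∈ R := h1
    rw [← hgwb, show w * x ^ j * x⁻¹ * (w * x ^ j)⁻¹ = w * x⁻¹ * w⁻¹ by group] at h2
    exact h2
  set e := x * w * x⁻¹ * w⁻¹ with he
  have heQ : e ∈ Q := hRP e
    (by rw [he, mul_assoc x, mul_assoc x]; exact mul_mem hxR hwN)
    (mul_mem ((mem_normalizer_iff.1 hx w).1 hw) (inv_mem hw))
  set d := w⁻¹ * (v * w * v⁻¹) with hd
  have hdP : d ∈ P := mul_mem (inv_mem hw) ((mem_normalizer_iff.1 hv w).1 hw)
  have hdx : Commute x d := by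
    have hve : v * e = e * v := (mem_cent.1 heQ.2).symm.eq
    have hxd : x * d * x⁻¹ = d :=
      calc x * d * x⁻¹ = (x * w * x⁻¹)⁻¹ * ((x * v) * w * (x * v)⁻¹) := by rw [hd]; group
        _ = (x * w * x⁻¹)⁻¹ * (v * (x * w * x⁻¹) * v⁻¹) := by rw [hxv.eq]; group
        _ = (e * w)⁻¹ * ((v * e) * w * v⁻¹) := by rw [he]; group
        _ = d := by rw [hve, hd]; group
    exact mul_inv_eq_iff_eq_mul.1 hxd
  have hdv := hfix d hdP hdx
  have hpow : ∀ k : ℕ, v ^ k * w * (v ^ k)⁻¹ = w * d ^ k := by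
    intro k
    induction k with
    | zero => simp
    | succ k ih =>
      calc v ^ (k + 1) * w * (v ^ (k + 1))⁻¹ = v * (v ^ k * w * (v ^ k)⁻¹) * v⁻¹ := by rw [pow_succ']; group
        _ = (v * w * v⁻¹) * (v * d ^ k * v⁻¹) := by rw [ih]; group
        _ = w * d * d ^ k := by rw [(hdv.pow_right k).eq, mul_inv_cancel_right, hd]; group
        _ = w * d ^ (k + 1) := by rw [pow_succ', mul_assoc]
  obtain ⟨j, hj⟩ := hP ⟨d, hdP⟩
  have hd1 : d = 1 := by
    refine eq_one_of_pel (p := p) (i := j) (congrArg Subtype.val hj) (hvp.coprime_dvd_left ?_)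
    refine orderOf_dvd_of_pow_eq_one ?_
    have := hpow (orderOf v)
    rw [pow_orderOf_eq_one, one_mul, inv_one, mul_one] at this
    exact mul_eq_left.1 this.symm
  refine hwR (mem_sup_left ⟨hw, mem_cent.2 ?_⟩)
  exact (mul_inv_eq_iff_eq_mul.1 (inv_mul_eq_one.1 hd1).symm).symm

end CfsgLib.Perm.FourSizes
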